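import Mathlib

/-!
The critical case of Theorem B of Hall and Higman: a `p`-element normalizing an irreducible
group of order prime to `p` and acting on it without fixed points modulo the scalars.
-/

set_option autoImplicit false
set_option linter.unusedSectionVars false

namespace CfsgLib.HallHigmanB

open Finset

variable {k : Type*} [Field k] {U : Type*} [AddCommGroup U] [Module k U] [FiniteDimensional k U]

theorem scalar_of_commute [IsAlgClosed k] [Nontrivial U] (S : Set (Module.End k U))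
    (hirr : ∀ W : Submodule k U, (∀ a ∈ S, ∀ w ∈ W, a w ∈ W) → W = ⊥ ∨ W = ⊤) {f : Module.End k U}
    (hf : ∀ a ∈ S, a * f = f * a) : ∃ c : k, f = c • (1 : Module.End k U) := by
  obtain ⟨μ, hμ⟩ := Module.End.exists_eigenvalue f
  refine ⟨μ, LinearMap.ext fun x => ?_⟩
  have hinv : ∀ a ∈ S, ∀ w ∈ f.eigenspace μ, a w ∈ f.eigenspace μ := fun a ha w hw => by
    rw [Module.End.mem_eigenspace_iff] at hw ⊢
    rw [show f (a w) = (f * a) w from rfl, ← hf a ha, Module.End.mul_apply, hw, map_smul]
  rcases hirr (f.eigenspace μ) hinv with h | h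
  · exact absurd h hμ
  · exact Module.End.mem_eigenspace_iff.1 (by rw [h]; trivial)

/-- Reproducing formula of an irreducible representation of order prime to the characteristic. -/
theorem exists_reproducing [IsAlgClosed k] [Nontrivial U] {Q : Type*} [Group Q] [Fintype Q]
    (ρ : Q →* Module.End k U)
    (hirr : ∀ W : Submodule k U, (∀ a, ∀ w ∈ W, ρ a w ∈ W) → W = ⊥ ∨ W = ⊤) (hQ : (Fintype.card Q : k) ≠ 0) :
    ∃ c : k, c ≠ 0 ∧ ∀ f : Module.End k U, c • f = ∑ q : Q, LinearMap.trace k U (f * ρ q⁻¹) • ρ q := by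
  classical
  let b := Module.finBasis k U
  have htr : ∀ f : Module.End k U, LinearMap.trace k U f = ∑ i, b.coord i (f (b i)) := fun f => by
    rw [LinearMap.trace_eq_matrix_trace k b, Matrix.trace]
    exact Finset.sum_congr rfl fun i _ => by simp [Matrix.diag, LinearMap.toMatrix_apply, Module.Basis.coord_apply]
  have havg : ∀ B : Module.End k U, ∃ μ : k, (∑ q : Q, ρ q * B * ρ q⁻¹) = μ • (1 : Module.End k U) ∧
      (Module.finrank k U : k) * μ = Fintype.card Q * LinearMap.trace k U B := by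
    intro B
    have hcomm : ∀ a ∈ Set.range ρ, a * (∑ q : Q, ρ q * B * ρ q⁻¹) = (∑ q : Q, ρ q * B * ρ q⁻¹) * a := by
      rintro _ ⟨a, rfl⟩
      rw [Finset.mul_sum, Finset.sum_mul]
      refine Fintype.sum_equiv (Equiv.mulLeft a) _ _ fun q => ?_
      simp only [Equiv.coe_mulLeft, mul_inv_rev, map_mul, mul_assoc]
      rw [← map_mul ρ a⁻¹ a, inv_mul_cancel, map_one, mul_one]
    obtain ⟨μ, hμ⟩ := scalar_of_commute (Set.range ρ)
      (fun W hW => hirr W fun a w hw => hW _ ⟨a, rfl⟩ w hw) hcomm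
    refine ⟨μ, hμ, ?_⟩
    have h := congrArg (LinearMap.trace k U) hμ
    rw [map_sum, map_smul, LinearMap.trace_one, smul_eq_mul, Finset.sum_congr rfl (fun q _ => by
      rw [LinearMap.trace_mul_comm, ← mul_assoc, ← map_mul, inv_mul_cancel, map_one, one_mul] :
        ∀ q ∈ (Finset.univ : Finset Q), LinearMap.trace k U (ρ q * B * ρ q⁻¹) = LinearMap.trace k U B),
      Finset.sum_const, Finset.card_univ, nsmul_eq_mul] at h
    rw [h, mul_comm]
  obtain ⟨i₀⟩ : Nonempty (Fin (Module.finrank k U)) := ⟨⟨0, Module.finrank_pos⟩⟩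
  have hd : (Module.finrank k U : k) ≠ 0 := by
    intro h0
    obtain ⟨μ, -, h⟩ := havg ((b.coord i₀).smulRight (b i₀))
    rw [h0, zero_mul, LinearMap.trace_smulRight, Module.Basis.coord_apply, Module.Basis.repr_self,
      Finsupp.single_eq_same, mul_one] at h
    exact hQ h.symm
  refine ⟨(Fintype.card Q : k) / Module.finrank k U, div_ne_zero hQ hd, fun f => LinearMap.ext fun v => ?_⟩
  have key : ∀ (φ : U →ₗ[k] k) (x : U), ∑ q : Q, φ (ρ q⁻¹ x) • ρ q v =
      ((Fintype.card Q : k) / Module.finrank k U * φ v) • x := by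
    intro φ x
    obtain ⟨μ, hμ, h⟩ := havg (φ.smulRight v)
    have h1 := LinearMap.congr_fun hμ x
    simp only [LinearMap.sum_apply, Module.End.mul_apply, LinearMap.smulRight_apply, map_smul,
      LinearMap.smul_apply, Module.End.one_apply] at h1
    rw [h1]
    congr 1
    rw [LinearMap.trace_smulRight] at h
    rw [div_mul_eq_mul_div, eq_div_iff hd, ← h, mul_comm]
  rw [LinearMap.smul_apply, LinearMap.sum_apply]
  simp only [htr, Finset.sum_smul, LinearMap.sum_apply, LinearMap.smul_apply]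
  rw [Finset.sum_comm]
  have h2 : ∀ i, ∑ q : Q, b.coord i ((f * ρ q⁻¹) (b i)) • ρ q v =
      ((Fintype.card Q : k) / Module.finrank k U * b.coord i (f v)) • b i := fun i => key (b.coord i ∘ₗ f) (b i)
  rw [Finset.sum_congr rfl fun i _ => h2 i]
  simp only [mul_smul, ← Finset.smul_sum, Module.Basis.coord_apply, b.sum_repr]

/-- A sum over a set on which a permutation acts freely with period `h` splits into orbit sums. -/
theorem sum_orbits {α M : Type*} [AddCommMonoid M] (σ : Equiv.Perm α) (h : ℕ) (hh0 : 0 < h)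
    (hh : ∀ x, (σ ^ h) x = x) (F : α → M) (S : Finset α) (hS : ∀ x ∈ S, σ x ∈ S)
    (hfree : ∀ x ∈ S, ∀ i, 0 < i → i < h → (σ ^ i) x ≠ x) :
    ∃ R : Finset α, R ⊆ S ∧ ∑ x ∈ S, F x = ∑ r ∈ R, ∑ i ∈ range h, F ((σ ^ i) r) := by
  classical
  induction S using Finset.strongInduction with
  | _ S IH =>
  rcases S.eq_empty_or_nonempty with rfl | ⟨x, hx⟩
  · exact ⟨∅, subset_rfl, by simp⟩
  set O := (range h).image fun i => (σ ^ i) x with hO
  have hOS : O ⊆ S := by
    intro y hy
    obtain ⟨i, -, rfl⟩ := Finset.mem_image.1 hy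
    clear hy
    induction i with
    | zero => simpa using hx
    | succ i IH2 => rw [pow_succ', Equiv.Perm.mul_apply]; exact hS _ IH2
  have hinj : Set.InjOn (fun i => (σ ^ i) x) (range h : Set ℕ) := by
    intro i hi j hj hij
    simp only [Finset.coe_range, Set.mem_Iio] at hi hj
    by_contra hne
    wlog hlt : i < j generalizing i j with H
    · exact H hij.symm hj hi (Ne.symm hne) (by omega)
    refine hfree x hx (j - i) (by omega) (by omega) ((σ ^ i).injective ?_)
    rw [← Equiv.Perm.mul_apply, ← pow_add, Nat.add_sub_cancel' hlt.le]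
    exact hij.symm
  have hσO : ∀ y, σ y ∈ O → y ∈ O := by
    intro y hy
    obtain ⟨i, hi, he⟩ := Finset.mem_image.1 hy
    rw [Finset.mem_range] at hi
    refine Finset.mem_image.2 ⟨(i + h - 1) % h, Finset.mem_range.2 (Nat.mod_lt _ hh0), σ.injective ?_⟩
    rw [← Equiv.Perm.mul_apply, ← pow_succ', ← he]
    rcases Nat.eq_zero_or_pos i with rfl | hi0
    · rw [Nat.zero_add, Nat.mod_eq_of_lt (by omega), Nat.sub_add_cancel hh0, hh, pow_zero, Equiv.Perm.one_apply]
    · rw [show i + h - 1 = i - 1 + h by omega, Nat.add_mod_right, Nat.mod_eq_of_lt (by omega),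
        Nat.sub_add_cancel hi0]
  obtain ⟨R, hRs, hR⟩ := IH (S \ O) (Finset.sdiff_ssubset hOS ⟨x, Finset.mem_image.2 ⟨0, Finset.mem_range.2 hh0, by simp⟩⟩)
    (fun y hy => Finset.mem_sdiff.2 ⟨hS y (Finset.mem_sdiff.1 hy).1, fun hm => (Finset.mem_sdiff.1 hy).2 (hσO y hm)⟩)
    fun y hy => hfree y (Finset.mem_sdiff.1 hy).1
  have hR' : x ∉ R := fun hm => (Finset.mem_sdiff.1 (hRs hm)).2
    (Finset.mem_image.2 ⟨0, Finset.mem_range.2 hh0, by simp⟩)
  refine ⟨insert x R, Finset.insert_subset hx (hRs.trans Finset.sdiff_subset), ?_⟩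
  rw [Finset.sum_insert hR', ← hR, ← Finset.sum_sdiff hOS, hO, Finset.sum_image hinj, add_comm]

variable {p : ℕ} [hp : Fact p.Prime] [CharP k p]

theorem geom_sum_eq_sub_one_pow {A : Type*} [Ring A] [Algebra k A] (x : A) (n : ℕ) :
    ∑ i ∈ range (p ^ n), x ^ i = (x - 1) ^ (p ^ n - 1) := by
  have h : (∑ i ∈ range (p ^ n), (Polynomial.X : Polynomial k) ^ i) = (Polynomial.X - 1) ^ (p ^ n - 1) := by
    refine mul_right_cancel₀ (Polynomial.X_sub_C_ne_zero (1 : k)) ?_
    rw [map_one, geom_sum_mul, ← pow_succ, Nat.sub_add_cancel (Nat.one_le_pow _ _ hp.out.pos),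
      sub_pow_char_pow, one_pow]
  simpa using congrArg (Polynomial.aeval x) h

/-- The critical case. -/
theorem critical [IsAlgClosed k] [Nontrivial U] (Q : Subgroup (Module.End k U)ˣ) [Finite Q]
    (hcard : (Nat.card Q : k) ≠ 0)
    (hirr : ∀ W : Submodule k U, (∀ a ∈ Q, ∀ w ∈ W, (a : Module.End k U) w ∈ W) → W = ⊥ ∨ W = ⊤)
    (T : (Module.End k U)ˣ) (hT : ∀ a ∈ Q, T * a * T⁻¹ ∈ Q) (n : ℕ) (hn : T ^ (p ^ n) = 1) (hT1 : T ≠ 1)
    (hfpf : ∀ a ∈ Q, ∀ i, 0 < i → i < p ^ n → T ^ i * a = a * T ^ i →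
      ∃ c : k, (a : Module.End k U) = c • (1 : Module.End k U))
    (s : ℕ) (hs : ((T : Module.End k U) - 1) ^ s = 0) (hs1 : ((T : Module.End k U) - 1) ^ (s - 1) ≠ 0) :
    p ^ n - 1 ≤ s ∧ (s + 1 = p ^ n → Module.finrank k U = s) := by
  classical
  haveI := Fintype.ofFinite Q
  set h := p ^ n with hh
  have hh0 : 0 < h := pow_pos hp.out.pos n
  set E := Module.End k U
  set N : E := (T : E) - 1 with hN
  obtain ⟨c, hc, hrep⟩ := exists_reproducing ((Units.coeHom E).comp Q.subtype)
    (fun W hW => hirr W fun a ha w hw => hW ⟨a, ha⟩ w hw) (by rwa [← Nat.card_eq_fintype_card])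
  let σ₀ : Q → Q := fun a => ⟨T * a * T⁻¹, hT a a.2⟩
  have hσi : Function.Injective σ₀ := fun a b e => Subtype.ext (mul_left_cancel (mul_right_cancel (congrArg Subtype.val e)))
  let σ : Equiv.Perm Q := Equiv.ofBijective σ₀ ⟨hσi, Finite.surjective_of_injective hσi⟩
  have hσ : ∀ (i : ℕ) (a : Q), (((σ ^ i) a : Q) : Eˣ) = T ^ i * a * (T ^ i)⁻¹ := by
    intro i
    induction i with
    | zero => simp
    | succ i IH =>
      intro a
      rw [pow_succ', Equiv.Perm.mul_apply]
      show T * (((σ ^ i) a : Q) : Eˣ) * T⁻¹ = _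
      rw [IH, pow_succ']; group
  -- the norm map lands in the image of a power of `N`
  have hnorm : ∀ g : E, N ^ (h - s) ∣ ∑ i ∈ range h, ((T ^ i : Eˣ) : E) * g * ((T ^ i)⁻¹ : Eˣ) := by
    intro g
    let K : Module.End k E := LinearMap.mulLeft k (T : E) * LinearMap.mulRight k ((T⁻¹ : Eˣ) : E)
    let D : Module.End k E := LinearMap.mulLeft k N - LinearMap.mulRight k N
    let R' : Module.End k E := LinearMap.mulRight k ((T⁻¹ : Eˣ) : E)
    have hKi : ∀ (i : ℕ) (x : E), (K ^ i) x = ((T ^ i : Eˣ) : E) * x * ((T ^ i)⁻¹ : Eˣ) := by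
      intro i
      induction i with
      | zero => simp
      | succ i IH =>
        intro x
        rw [pow_succ' (M := Module.End k E), Module.End.mul_apply, IH]
        show (T : E) * (_ * ((T⁻¹ : Eˣ) : E)) = _
        rw [pow_succ', Units.val_mul, mul_inv_rev, Units.val_mul, ← inv_pow]
        simp only [mul_assoc]
    have hK1 : K - 1 = D * R' := LinearMap.ext fun x => by
      show (T : E) * (x * ((T⁻¹ : Eˣ) : E)) - x = N * (x * ((T⁻¹ : Eˣ) : E)) - x * ((T⁻¹ : Eˣ) : E) * N
      rw [hN, sub_mul, one_mul, mul_sub, mul_one, mul_assoc x, Units.inv_mul, mul_one]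
      abel
    have hcomm : Commute D R' := LinearMap.ext fun x => by
      show N * (x * ((T⁻¹ : Eˣ) : E)) - x * ((T⁻¹ : Eˣ) : E) * N = (N * x - x * N) * ((T⁻¹ : Eˣ) : E)
      have e : ((T⁻¹ : Eˣ) : E) * N = N * ((T⁻¹ : Eˣ) : E) := by
        rw [hN, mul_sub, sub_mul, Units.inv_mul, Units.mul_inv, one_mul, mul_one]
      rw [mul_assoc x _ N, e]
      simp only [sub_mul, mul_assoc]
    have h1 : ∑ i ∈ range h, ((T ^ i : Eˣ) : E) * g * ((T ^ i)⁻¹ : Eˣ) = (D ^ (h - 1)) ((R' ^ (h - 1)) g) := by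
      rw [← Module.End.mul_apply, ← hcomm.mul_pow, ← hK1, ← geom_sum_eq_sub_one_pow (k := k) (p := p) K n,
        LinearMap.sum_apply]
      exact Finset.sum_congr rfl fun i _ => (hKi i g).symm
    rw [h1]
    set g' := (R' ^ (h - 1)) g
    have hLR : Commute (LinearMap.mulLeft k N) (LinearMap.mulRight k (-N)) := LinearMap.commute_mulLeft_right N (-N)
    rw [show D = LinearMap.mulLeft k N + LinearMap.mulRight k (-N) from LinearMap.ext fun x => by
      show N * x - x * N = N * x + x * (-N)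
      rw [mul_neg, sub_eq_add_neg], hLR.add_pow, LinearMap.sum_apply]
    refine Finset.dvd_sum fun j hj => ?_
    rw [Finset.mem_range] at hj
    rw [LinearMap.pow_mulLeft, LinearMap.pow_mulRight, ← nsmul_eq_mul']
    rw [show ∀ (m : ℕ) (F : Module.End k E), (m • F) g' = m • F g' from fun m F => rfl, Module.End.mul_apply]

    rcases le_or_gt (h - s) j with hje | hje
    · refine dvd_smul_of_dvd _ ?_
      simp only [LinearMap.mulLeft_apply]
      exact Dvd.dvd.mul_right (pow_dvd_pow N hje) _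
    · have hz : N ^ (h - 1 - j) = 0 := pow_eq_zero_of_le (by omega) hs
      rw [LinearMap.mulRight_apply, neg_pow N, hz]
      simp
  -- everything commuting with `T` is a scalar plus a norm
  have hcent : ∀ f : E, Commute (T : E) f → ∃ (a : k) (y : E), f = a • (1 : E) + N ^ (h - s) * y := by
    intro f hf
    let φ : Q → k := fun a => LinearMap.trace k U (f * ((a⁻¹ : Q) : Eˣ))
    let F : Q → E := fun a => φ a • ((a : Eˣ) : E)
    have hφ : ∀ (i : ℕ) (a : Q), φ ((σ ^ i) a) = φ a := by
      intro i a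
      show LinearMap.trace k U (f * (((σ ^ i) a : Q)⁻¹ : Eˣ)) = _
      rw [hσ, mul_inv_rev, mul_inv_rev, inv_inv, Units.val_mul, Units.val_mul]
      have hfi : Commute ((T ^ i : Eˣ) : E) f := by rw [Units.val_pow_eq_pow_val]; exact hf.pow_left i
      rw [← mul_assoc f, ← hfi.eq, mul_assoc ((T ^ i : Eˣ) : E), LinearMap.trace_mul_comm]
      simp only [mul_assoc, ← Units.val_mul, inv_mul_cancel, mul_one]
      rfl
    set S := Finset.univ.filter fun a : Q => ¬ ∃ d : k, ((a : Eˣ) : E) = d • (1 : E)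
    have hS : ∀ a ∈ S, σ a ∈ S := by
      intro a ha
      simp only [S, Finset.mem_filter, Finset.mem_univ, true_and] at ha ⊢
      rintro ⟨d, hd⟩
      refine ha ⟨d, ?_⟩
      have h1 : ((T * (a : Eˣ) * T⁻¹ : Eˣ) : E) = d • (1 : E) := hd
      have h2 : ((a : Eˣ) : E) = ((T⁻¹ : Eˣ) : E) * ((T * (a : Eˣ) * T⁻¹ : Eˣ) : E) * (T : E) := by
        rw [← Units.val_mul, ← Units.val_mul]
        congr 1
        group
      rw [h2, h1, mul_smul_comm, mul_one, smul_mul_assoc, Units.inv_mul]
    obtain ⟨R, -, hR⟩ := sum_orbits σ h hh0 (fun a => Subtype.ext (by rw [hσ, hn, one_mul, inv_one, mul_one])) F S hS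
      (fun a ha i hi hih he => (Finset.mem_filter.1 ha).2 (hfpf a a.2 i hi hih (by
        have h1 := congrArg (fun z : Q => (z : Eˣ)) he
        rw [hσ] at h1
        calc T ^ i * (a : Eˣ) = T ^ i * (a : Eˣ) * (T ^ i)⁻¹ * T ^ i := by group
          _ = _ := by rw [h1])))
    obtain ⟨a₀, ha₀⟩ : ∃ a₀ : k, ∑ a ∈ Sᶜ, F a = a₀ • (1 : E) := by
      have : ∀ a ∈ Sᶜ, ∃ d : k, F a = d • (1 : E) := by
        intro a ha
        simp only [S, Finset.mem_compl, Finset.mem_filter, Finset.mem_univ, true_and, not_not] at ha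
        obtain ⟨d, hd⟩ := ha
        exact ⟨φ a * d, by show φ a • _ = _; rw [hd, smul_smul]⟩
      choose d hd using this
      exact ⟨∑ a ∈ Sᶜ.attach, d a.1 a.2, by
        rw [Finset.sum_smul, ← Finset.sum_attach]
        exact Finset.sum_congr rfl fun a _ => hd a.1 a.2⟩
    obtain ⟨y, hy⟩ := hnorm (∑ r ∈ R, F r)
    have hsum : c • f = a₀ • (1 : E) + N ^ (h - s) * y := by
      rw [← hy, hrep]
      show ∑ a, F a = _
      rw [← Finset.sum_compl_add_sum S, ha₀, hR]
      congr 1
      rw [Finset.sum_comm]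
      refine Finset.sum_congr rfl fun i _ => ?_
      rw [Finset.mul_sum, Finset.sum_mul]
      refine Finset.sum_congr rfl fun r _ => ?_
      show φ ((σ ^ i) r) • _ = _
      rw [hφ, mul_smul_comm, smul_mul_assoc, hσ, Units.val_mul, Units.val_mul]

    refine ⟨c⁻¹ * a₀, c⁻¹ • y, ?_⟩
    rw [← smul_smul, mul_smul_comm, ← smul_add, ← hsum, inv_smul_smul₀ hc]
  have hN0 : N ≠ 0 := fun h0 => hT1 (Units.ext (sub_eq_zero.1 h0))
  have hs2 : 2 ≤ s := by
    by_contra hs2
    interval_cases s
    · rw [pow_zero] at hs; exact one_ne_zero hs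
    · rw [pow_one] at hs; exact hN0 hs
  have hTN : Commute (T : E) N := (Commute.refl (T : E)).sub_right (Commute.one_right _)
  refine ⟨?_, fun hsh => ?_⟩
  · by_contra hlt
    obtain ⟨a, y, hay⟩ := hcent N hTN
    have he2 : N ^ (h - s) = N ^ 2 * N ^ (h - s - 2) := by rw [← pow_add]; congr 1; omega
    rw [he2, mul_assoc] at hay
    set z := N ^ (h - s - 2) * y
    have ha : a = 0 := by
      have h1 := congrArg (N ^ (s - 1) * ·) hay
      simp only [mul_add, mul_smul_comm, mul_one, ← mul_assoc, ← pow_add, ← pow_succ] at h1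
      rw [show s - 1 + 1 = s by omega, hs, pow_eq_zero_of_le (by omega : s ≤ s - 1 + 2) hs, zero_mul, add_zero] at h1
      exact (smul_eq_zero.1 h1.symm).resolve_right hs1
    rw [ha, zero_smul, zero_add] at hay
    have hiter : ∀ i : ℕ, N = N ^ (i + 1) * z ^ i := by
      intro i
      induction i with
      | zero => simp
      | succ i IH =>
        calc N = N ^ (i + 1) * z ^ i := IH
          _ = N ^ i * (N ^ 2 * z) * z ^ i := by rw [pow_succ, ← hay]
          _ = N ^ (i + 1 + 1) * z ^ (i + 1) := by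
            rw [show i + 1 + 1 = i + 2 from rfl, pow_add, pow_succ' z i]
            simp only [mul_assoc]
    exact hN0 (by rw [hiter s, pow_succ, hs, zero_mul, zero_mul])
  · obtain ⟨v, hv⟩ : ∃ v, (N ^ (s - 1)) v ≠ 0 := by
      by_contra hall
      push Not at hall
      exact hs1 (LinearMap.ext hall)
    obtain ⟨ψ, hψ⟩ : ∃ ψ : U →ₗ[k] k, ψ ((N ^ (s - 1)) v) = 1 := by
      obtain ⟨ψ, hψ⟩ := Submodule.exists_dual_map_eq_bot_of_notMem (p := (⊥ : Submodule k U)) (x := (N ^ (s - 1)) v)
        (by simpa using hv) inferInstance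
      exact ⟨(ψ ((N ^ (s - 1)) v))⁻¹ • ψ, by rw [LinearMap.smul_apply, smul_eq_mul, inv_mul_cancel₀ hψ.1]⟩
    let f : E := ∑ i ∈ range s, (ψ ∘ₗ (N ^ i)).smulRight ((N ^ (s - 1 - i)) v)
    have hf : ∀ w, f w = ∑ i ∈ range s, ψ ((N ^ i) w) • (N ^ (s - 1 - i)) v := fun w => by
      show (∑ i ∈ range s, (ψ ∘ₗ (N ^ i)).smulRight ((N ^ (s - 1 - i)) v) : U →ₗ[k] U) w = _
      rw [LinearMap.sum_apply]
      rfl
    have hfN : Commute N f := LinearMap.ext fun w => by
      show N (f w) = f (N w)
      rw [hf, hf, map_sum]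
      obtain ⟨t, rfl⟩ : ∃ t, s = t + 1 := ⟨s - 1, by omega⟩
      have hz : ∀ x, (N ^ (t + 1)) x = 0 := fun x => by rw [hs]; rfl
      rw [Finset.sum_range_succ' (fun i => N (ψ ((N ^ i) w) • (N ^ (t + 1 - 1 - i)) v)),
        Finset.sum_range_succ (fun i => ψ ((N ^ i) (N w)) • (N ^ (t + 1 - 1 - i)) v)]
      have h1 : ψ ((N ^ t) (N w)) = 0 := by
        rw [show (N ^ t) (N w) = (N ^ (t + 1)) w by rw [pow_succ]; rfl, hz, map_zero]
      have h2 : N ((N ^ (t + 1 - 1 - 0)) v) = 0 := by
        rw [Nat.sub_zero, Nat.add_sub_cancel, show N ((N ^ t) v) = (N ^ (t + 1)) v by rw [pow_succ']; rfl, hz]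
      rw [h1, zero_smul, add_zero, map_smul, h2, smul_zero, add_zero]
      refine Finset.sum_congr rfl fun i hi => ?_
      rw [Finset.mem_range] at hi
      rw [map_smul, pow_succ, Module.End.mul_apply, show t + 1 - 1 - i = t + 1 - 1 - (i + 1) + 1 by omega,
        pow_succ', Module.End.mul_apply]
    have hfT : Commute (T : E) f := by
      have : (T : E) = N + 1 := by rw [hN, sub_add_cancel]
      rw [this]
      exact hfN.add_left (Commute.one_left f)
    obtain ⟨a, y, hay⟩ := hcent f hfT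
    rw [show h - s = 1 by omega, pow_one] at hay
    have hrest : ∀ i < s - 1, ∀ w, ψ ((N ^ i) w) • (N ^ (s - 1 - i)) v ∈ LinearMap.range N := fun i hi w => by
      refine Submodule.smul_mem _ _ ⟨(N ^ (s - 1 - i - 1)) v, ?_⟩
      rw [← Module.End.mul_apply, ← pow_succ', Nat.sub_add_cancel (by omega)]
    have hv' : v ∉ LinearMap.range N := by
      rintro ⟨w, rfl⟩
      refine hv ?_
      rw [← Module.End.mul_apply, ← pow_succ, show s - 1 + 1 = s by omega, hs]
      rfl
    have ha : a = 1 := by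
      by_contra ha
      refine hv' ?_
      have h1 : (1 - a) • v ∈ LinearMap.range N := by
        have h2 := hf v
        rw [show range s = range (s - 1 + 1) by rw [Nat.sub_add_cancel (by omega : 1 ≤ s)], Finset.sum_range_succ,
          Nat.sub_self, pow_zero, Module.End.one_apply, hψ, one_smul, hay] at h2
        change a • v + N (y v) = _ at h2
        have e : (1 - a) • v = N (y v) - ∑ x ∈ range (s - 1), ψ ((N ^ x) v) • (N ^ (s - 1 - x)) v := by
          rw [sub_smul, one_smul, sub_eq_sub_iff_add_eq_add, add_comm (N (y v)), h2]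
          abel
        rw [e]
        exact Submodule.sub_mem _ ⟨y v, rfl⟩ (Submodule.sum_mem _ fun i hi => hrest i (Finset.mem_range.1 hi) v)
      exact (Submodule.smul_mem_iff _ (sub_ne_zero.2 (Ne.symm ha))).1 h1
    set W := Submodule.span k ((fun i => (N ^ i) v) '' (range s : Finset ℕ))
    have hstep : ∀ j : ℕ, ∀ w : U, ∃ u : U, w - (N ^ j) u ∈ W := by
      have hone : ∀ w : U, ∃ u : U, w - N u ∈ W := by
        intro w
        refine ⟨-(y w), ?_⟩
        have h1 : f w ∈ W := by
          rw [hf]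
          refine Submodule.sum_mem _ fun i hi => Submodule.smul_mem _ _ (Submodule.subset_span ⟨s - 1 - i, ?_, rfl⟩)
          simp only [Finset.coe_range, Set.mem_Iio]
          omega
        rw [hay, ha, one_smul] at h1
        change w + N (y w) ∈ W at h1
        simpa using h1
      intro j
      induction j with
      | zero => exact fun w => ⟨w, by rw [pow_zero, Module.End.one_apply, sub_self]; exact W.zero_mem⟩
      | succ j IH =>
        intro w
        obtain ⟨u, hu⟩ := IH w
        obtain ⟨u', hu'⟩ := hone u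
        refine ⟨u', ?_⟩
        have hWinv : ∀ x ∈ W, (N ^ j) x ∈ W := by
          intro x hx
          induction hx using Submodule.span_induction with
          | mem x hx =>
            obtain ⟨i, hi, rfl⟩ := hx
            show (N ^ j) ((N ^ i) v) ∈ W
            rw [← Module.End.mul_apply, ← pow_add]
            rcases lt_or_ge (j + i) s with hlt | hge
            · exact Submodule.subset_span ⟨j + i, by simpa using hlt, rfl⟩
            · rw [pow_eq_zero_of_le hge hs]; simp
          | zero => simp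
          | add x y _ _ hx hy => rw [map_add]; exact add_mem hx hy
          | smul a x _ hx => rw [map_smul]; exact Submodule.smul_mem _ _ hx
        have h2 := W.add_mem hu (hWinv _ hu')
        rw [map_sub, ← Module.End.mul_apply (N ^ j) N, ← pow_succ] at h2
        simpa using h2
    have hW : W = ⊤ := eq_top_iff.2 fun w _ => by
      obtain ⟨u, hu⟩ := hstep s w
      rwa [hs, LinearMap.zero_apply, sub_zero] at hu
    refine le_antisymm ?_ ?_
    · rw [← finrank_top k U, ← hW]
      refine (finrank_span_le_card _).trans ?_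
      rw [Set.toFinset_image, Finset.toFinset_coe]
      exact Finset.card_image_le.trans (Finset.card_range s).le
    · by_contra hlt
      push Not at hlt
      refine hs1 (LinearMap.ext fun x => ?_)
      have h1 := Module.End.ker_pow_eq_ker_pow_finrank_of_le (f := N) (m := s) hlt.le
      have h2 := Module.End.ker_pow_eq_ker_pow_finrank_of_le (f := N) (m := s - 1) (by omega)
      rw [hs, LinearMap.ker_zero] at h1
      exact LinearMap.mem_ker.1 (show x ∈ LinearMap.ker (N ^ (s - 1)) by rw [h2, ← h1]; trivial)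

end CfsgLib.HallHigmanB
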