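import Cfsg.Agent.HallHigmanB.Main

/-!
Theorem B of Hall and Higman over an arbitrary field of characteristic `p`.
-/

set_option autoImplicit false
set_option linter.style.haveILetI false

namespace CfsgLib.HallHigmanB

variable {F : Type*} [Field F] {G : Type*} [Group G] [Finite G] {V : Type*} [AddCommGroup V] [Module F V]
  [FiniteDimensional F V] [Nontrivial V] {p : ℕ} [hp : Fact p.Prime] [CharP F p]

theorem exists_baseChange : ∃ φ : Module.End F V →+*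
    Module.End (AlgebraicClosure F) (Fin (Module.finrank F V) → AlgebraicClosure F), Function.Injective φ := by
  classical
  let b := Module.finBasis F V
  refine ⟨(Matrix.toLinAlgEquiv' (R := AlgebraicClosure F)
      (n := Fin (Module.finrank F V))).toRingEquiv.toRingHom.comp
      ((algebraMap F (AlgebraicClosure F)).mapMatrix.comp (LinearMap.toMatrixAlgEquiv b).toRingEquiv.toRingHom), ?_⟩
  exact (Matrix.toLinAlgEquiv' (R := AlgebraicClosure F) (n := Fin (Module.finrank F V))).injective.comp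
    ((Matrix.map_injective (algebraMap F (AlgebraicClosure F)).injective).comp
      (LinearMap.toMatrixAlgEquiv b).injective)

theorem theorem_B_field (ρ : G →* Module.End F V) (hρ : Function.Injective ρ) (hs : Cfsg.IsPSolvable p G)
    (hOp : Cfsg.pCore p G = ⊥) (x : G) (n : ℕ) (hx : orderOf x = p ^ n) (R : ℕ) (hR : (ρ x - 1) ^ R = 0) :
    p ^ n ≤ R ∨ ∃ n₀ q m : ℕ, 1 ≤ n₀ ∧ n₀ ≤ n ∧ q.Prime ∧ 1 ≤ m ∧ p ^ n₀ - 1 = q ^ m ∧
      (∀ Q : Sylow q G, ¬ IsMulCommutative Q) ∧ p ^ (n - n₀) * (p ^ n₀ - 1) ≤ R := by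
  obtain ⟨φ, hφ⟩ := exists_baseChange (F := F) (V := V)
  haveI : CharP (AlgebraicClosure F) p :=
    charP_of_injective_algebraMap (algebraMap F (AlgebraicClosure F)).injective p
  haveI : Nonempty (Fin (Module.finrank F V)) := ⟨⟨0, Module.finrank_pos⟩⟩
  refine theorem_B (φ.toMonoidHom.comp ρ) (hφ.comp hρ) hs hOp x n hx R ?_
  show (φ (ρ x) - 1) ^ R = 0
  rw [← map_one φ, ← map_sub, ← map_pow, hR, map_zero]

theorem theorem_B_sub_field (ρ : G →* Module.End F V) (hρ : Function.Injective ρ) (x : G) (n : ℕ)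
    (hx : orderOf x = p ^ n) (hn0 : 0 < n) {q : ℕ} (hq : q.Prime) (hqp : q ≠ p) (Q₀ : Subgroup G)
    (hQ₀ : IsPGroup q Q₀) (hxQ₀ : x ∈ Subgroup.normalizer (Q₀ : Set G))
    (hQy₀ : ¬ Q₀ ≤ Subgroup.centralizer ({x ^ p ^ (n - 1)} : Set G)) (R : ℕ) (hR : (ρ x - 1) ^ R = 0) :
    p ^ n ≤ R ∨ ∃ n₀ m : ℕ, 1 ≤ n₀ ∧ n₀ ≤ n ∧ 1 ≤ m ∧ p ^ n₀ - 1 = q ^ m ∧
      (¬ ∀ a ∈ Q₀, ∀ b ∈ Q₀, a * b = b * a) ∧ p ^ (n - n₀) * (p ^ n₀ - 1) ≤ R := by
  obtain ⟨φ, hφ⟩ := exists_baseChange (F := F) (V := V)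
  haveI : CharP (AlgebraicClosure F) p :=
    charP_of_injective_algebraMap (algebraMap F (AlgebraicClosure F)).injective p
  haveI : Nonempty (Fin (Module.finrank F V)) := ⟨⟨0, Module.finrank_pos⟩⟩
  refine theorem_B_sub (φ.toMonoidHom.comp ρ) (hφ.comp hρ) x n hx hn0 hq hqp Q₀ hQ₀ hxQ₀ hQy₀ R ?_
  show (φ (ρ x) - 1) ^ R = 0
  rw [← map_one φ, ← map_sub, ← map_pow, hR, map_zero]

end CfsgLib.HallHigmanB
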