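import Cfsg.Agent.HallHigmanB.Simples
import Cfsg.Agent.HallHigmanB.Core
import Cfsg.Agent.PCore.PConstrained
import Cfsg.Agent.PCore.PSolvable
import Cfsg.Agent.CoprimeAction.Invariant

/-!
Theorem B of Hall and Higman over an algebraically closed field.
-/

set_option autoImplicit false
set_option linter.style.haveILetI false
set_option linter.unusedSectionVars false

namespace CfsgLib.HallHigmanB

open CfsgLib.PCore

section Group

variable {G : Type*} [Group G] [Finite G] {p : ℕ} [hp : Fact p.Prime]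

theorem centralizer_pPrimeCore_le (hs : Cfsg.IsPSolvable p G) (h : Cfsg.pCore p G = ⊥) :
    Subgroup.centralizer (Cfsg.pPrimeCore p G : Set G) ≤ Cfsg.pPrimeCore p G := by
  set K := Cfsg.pPrimeCore p G
  haveI hK : K.Normal := (pPrimeCore_mem p G).1
  set C := Subgroup.centralizer (K : Set G)
  haveI : C.Normal := Subgroup.normal_centralizer
  by_contra hC
  set π := QuotientGroup.mk' K
  set Cb := C.map π
  haveI hCbn : Cb.Normal := Subgroup.Normal.map inferInstance _ (QuotientGroup.mk'_surjective _)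
  have hne : Cb ≠ ⊥ := fun h0 => hC (by
    have := (Subgroup.map_eq_bot_iff C).1 h0
    rwa [QuotientGroup.ker_mk'] at this)
  haveI : Nontrivial Cb := Cb.nontrivial_iff_ne_bot.2 hne
  have hcases : Cfsg.pCore p Cb ≠ ⊥ ∨ Cfsg.pPrimeCore p Cb ≠ ⊥ := by
    rcases cores_ne_bot (isPSolvable_subgroup (isPSolvable_quotient hs K) Cb) with h1 | h1
    · tauto
    · tauto
  rcases hcases with h1 | h1
  swap
  · refine h1 ((Subgroup.map_eq_bot_iff_of_injective _ Cb.subtype_injective).1 (eq_bot_iff.2 ?_))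
    rw [map_pPrimeCore_normal, pPrimeCore_quotient, bot_inf_eq]
  set Pb := (Cfsg.pCore p Cb).map Cb.subtype
  have hPb : Pb ≤ Cfsg.pCore p (G ⧸ K) := (map_pCore_normal Cb).le.trans inf_le_left
  set L := Pb.comap π ⊓ C
  have hPbn : Pb.Normal := by
    haveI := pCore_characteristic p Cb
    exact ConjAct.normal_of_characteristic_of_normal
  have hLn : L.Normal := by
    haveI : (Pb.comap π).Normal := hPbn.comap π
    exact Subgroup.normal_inf_normal _ _
  -- `L` is nilpotent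
  haveI hnilP : Group.IsNilpotent Pb := ((isPGroup_pCore p Cb).map Cb.subtype).isNilpotent
  let f : L →* Pb := (π.comp L.subtype).codRestrict Pb fun a => a.2.1
  have hker : f.ker ≤ Subgroup.center L := by
    intro a ha
    refine Subgroup.mem_center_iff.2 fun b => Subtype.ext ?_
    have haK : (a : G) ∈ K := (QuotientGroup.eq_one_iff _).1 (congrArg Subtype.val (MonoidHom.mem_ker.1 ha))
    exact (Subgroup.mem_centralizer_iff.1 b.2.2 _ haK).symm
  haveI : Group.IsNilpotent L := Subgroup.isNilpotent_of_ker_le_center f hker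
  obtain ⟨P⟩ : Nonempty (Sylow p L) := inferInstance
  have hPn : (P : Subgroup L).Normal :=
    ((Group.isNilpotent_of_finite_tfae (G := L)).out 0 3 :
      Group.IsNilpotent L ↔ ∀ (p : ℕ) (_hp : Fact p.Prime) (P : Sylow p L), (P : Subgroup L).Normal).mp ‹_› p hp P
  have hP0 : (P : Subgroup L).map L.subtype = ⊥ := by
    haveI := Sylow.characteristic_of_normal P hPn
    haveI := hLn
    exact eq_bot_iff.2 (h ▸ le_pCore ConjAct.normal_of_characteristic_of_normal (P.2.map _))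
  have hndvd : ¬ p ∣ Nat.card L := by
    have hPb0 : (P : Subgroup L) = ⊥ := (Subgroup.map_eq_bot_iff_of_injective _ L.subtype_injective).1 hP0
    intro hd
    have := P.dvd_card_of_dvd_card hd
    rw [show Nat.card (P : Subgroup L) = 1 by rw [hPb0]; exact Subgroup.card_bot] at this
    exact hp.out.not_dvd_one this
  refine h1 ((Subgroup.map_eq_bot_iff_of_injective _ Cb.subtype_injective).1 (eq_bot_iff.2 fun z hz => ?_))
  obtain ⟨c, hc, rfl⟩ : ∃ c ∈ C, π c = z := by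
    obtain ⟨w, -, rfl⟩ := hz
    exact w.2
  have hcL : c ∈ L := ⟨hz, hc⟩
  have hLK : L ≤ K := le_pPrimeCore_of_not_dvd hLn hndvd
  exact Subgroup.mem_bot.2 ((QuotientGroup.eq_one_iff _).2 (hLK hcL))

/-- A minimal `q`-subgroup normalized by `x` and not centralized by the element of order `p` of `⟨x⟩`. -/
theorem exists_minimal_qSubgroup (hs : Cfsg.IsPSolvable p G) (h : Cfsg.pCore p G = ⊥) {x y : G} {n : ℕ}
    (hx : orderOf x = p ^ n) (hy : y ∈ Subgroup.zpowers x) (hy1 : y ≠ 1) :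
    ∃ (q : ℕ) (Q : Subgroup G), q.Prime ∧ q ≠ p ∧ IsPGroup q Q ∧ x ∈ Subgroup.normalizer (Q : Set G) ∧
      ¬ Q ≤ Subgroup.centralizer ({y} : Set G) ∧
      ∀ D : Subgroup G, D < Q → x ∈ Subgroup.normalizer (D : Set G) → D ≤ Subgroup.centralizer ({y} : Set G) := by
  classical
  set K := Cfsg.pPrimeCore p G
  haveI hK : K.Normal := (pPrimeCore_mem p G).1
  obtain ⟨q, Q₀, hq, hQK, hQp, hQx, hQy⟩ : ∃ (q : ℕ) (Q : Subgroup G), q.Prime ∧ Q ≤ K ∧ IsPGroup q Q ∧
      x ∈ Subgroup.normalizer (Q : Set G) ∧ ¬ Q ≤ Subgroup.centralizer ({y} : Set G) := by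
    by_contra hcon
    push Not at hcon
    set A := Subgroup.zpowers x
    have hAK : A ≤ Subgroup.normalizer (K : Set G) := by rw [Subgroup.normalizer_eq_top_iff.2 hK]; exact le_top
    have hcop : (Nat.card A).Coprime (Nat.card K) := by
      rw [Nat.card_zpowers, hx]
      exact ((pPrimeCore_coprime p G).pow_right n).symm
    have hdvd : Nat.card K ∣ Nat.card (K ⊓ Subgroup.centralizer ({y} : Set G) : Subgroup G) := by
      refine (Nat.factorization_le_iff_dvd Nat.card_pos.ne' Nat.card_pos.ne').1 fun q => ?_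
      rcases Decidable.em q.Prime with hq | hq
      swap
      · rw [Nat.factorization_eq_zero_of_not_prime _ hq]; exact Nat.zero_le _
      haveI := Fact.mk hq
      obtain ⟨P, hP⟩ := CfsgLib.CoprimeAction.exists_invariant_sylow hAK hcop
        (Or.inl (Group.isSolvable_of_comm fun a b => by
          let _ := IsCyclic.commGroup (α := A)
          exact mul_comm a b)) q
      refine (hq.pow_dvd_iff_le_factorization Nat.card_pos.ne').1 ?_
      rw [← CfsgLib.CoprimeAction.card_sylow_map P]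
      exact Subgroup.card_dvd_of_le (le_inf (Subgroup.map_subtype_le _)
        (hcon q _ hq (Subgroup.map_subtype_le _) (P.2.map _) (hP (Subgroup.mem_zpowers x))))
    have hKy : K ≤ Subgroup.centralizer ({y} : Set G) :=
      inf_eq_left.1 (Subgroup.eq_of_le_of_card_ge inf_le_left (Nat.le_of_dvd Nat.card_pos hdvd))
    have hyK : y ∈ K := centralizer_pPrimeCore_le hs h (Subgroup.mem_centralizer_iff.2 fun z hz =>
      Subgroup.mem_centralizer_singleton_iff.1 (hKy hz))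
    refine hy1 (orderOf_eq_one_iff.1 (Nat.eq_one_of_dvd_coprimes ((pPrimeCore_coprime p G).pow_right n)
      (Subgroup.orderOf_dvd_natCard K hyK) ?_))
    rw [← hx, ← Nat.card_zpowers x]
    exact Subgroup.orderOf_dvd_natCard _ hy
  obtain ⟨Q, ⟨hQK', hQp', hQx', hQy'⟩, hmin⟩ := (Set.toFinite {Q : Subgroup G | Q ≤ K ∧ IsPGroup q Q ∧
      x ∈ Subgroup.normalizer (Q : Set G) ∧ ¬ Q ≤ Subgroup.centralizer ({y} : Set G)}).exists_minimal
    ⟨Q₀, hQK, hQp, hQx, hQy⟩
  refine ⟨q, Q, hq, fun hqp => ?_, hQp', hQx', hQy', fun D hD hDx => ?_⟩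
  · subst hqp
    haveI := Fact.mk hq
    obtain ⟨i, hi⟩ := IsPGroup.iff_card.1 hQp'
    have h1 : Nat.card Q = 1 := Nat.eq_one_of_dvd_coprimes ((pPrimeCore_coprime q G).pow_right i)
      (Subgroup.card_dvd_of_le hQK') (dvd_of_eq hi)
    exact hQy' (by rw [Subgroup.card_eq_one.1 h1]; exact bot_le)
  · by_contra hDy
    exact hD.not_ge (hmin (y := D) ⟨hD.le.trans hQK', hQp'.to_le hD.le, hDx, hDy⟩ hD.le)

end Group

variable {k : Type*} [Field k] {G : Type*} [Group G] {V : Type*} [AddCommGroup V] [Module k V]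
  (ρ : G →* Module.End k V)

/-- The stabilizer of a subspace. -/
def stab (U : Submodule k V) : Subgroup G where
  carrier := {g | U.map (ρ g) = U}
  one_mem' := by
    show U.map (ρ 1) = U
    rw [map_one, Module.End.one_eq_id, Submodule.map_id]
  mul_mem' := fun {a b} (ha : _ = U) (hb : _ = U) => by
    show U.map (ρ (a * b)) = U
    rw [← map_rho_mul, hb, ha]
  inv_mem' := fun {a} (ha : _ = U) => by
    show U.map (ρ a⁻¹) = U
    conv_lhs => rw [← ha]
    exact map_rho_inv a U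

/-- The restriction to an invariant subspace. -/
def restr (U : Submodule k V) : stab ρ U →* Module.End k U where
  toFun g := (ρ (g : G)).restrict (p := U) (q := U) fun v hv => by
    have h : U.map (ρ (g : G)) = U := g.2
    exact h.le ⟨v, hv, rfl⟩
  map_one' := by ext v; simp [map_one]
  map_mul' a b := by ext v; simp [map_mul]

theorem restr_apply (U : Submodule k V) (g : stab ρ U) (v : U) : (restr ρ U g v : V) = ρ (g : G) v := rfl

variable [Finite G] [FiniteDimensional k V] [IsAlgClosed k] {p : ℕ} [hp : Fact p.Prime] [CharP k p]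

/-- Theorem B for a given `q`-subgroup normalized by `x` and moved by its element of order `p`. -/
theorem theorem_B_sub [Nontrivial V] (hρ : Function.Injective ρ) (x : G) (n : ℕ) (hx : orderOf x = p ^ n)
    (hn0 : 0 < n) {q : ℕ} (hq : q.Prime) (hqp : q ≠ p) (Q₀ : Subgroup G) (hQ₀ : IsPGroup q Q₀)
    (hxQ₀ : x ∈ Subgroup.normalizer (Q₀ : Set G))
    (hQy₀ : ¬ Q₀ ≤ Subgroup.centralizer ({x ^ p ^ (n - 1)} : Set G)) (R : ℕ) (hR : (ρ x - 1) ^ R = 0) :
    p ^ n ≤ R ∨ ∃ n₀ m : ℕ, 1 ≤ n₀ ∧ n₀ ≤ n ∧ 1 ≤ m ∧ p ^ n₀ - 1 = q ^ m ∧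
      (¬ ∀ a ∈ Q₀, ∀ b ∈ Q₀, a * b = b * a) ∧ p ^ (n - n₀) * (p ^ n₀ - 1) ≤ R := by
  classical
  haveI : CharP (Module.End k V) p := charP_of_injective_algebraMap (algebraMap k (Module.End k V)).injective p
  set y := x ^ p ^ (n - 1) with hydef
  have hy1 : y ≠ 1 := fun h1 => by
    have h2 := Nat.le_of_dvd (pow_pos hp.out.pos _) (hx ▸ orderOf_dvd_of_pow_eq_one h1)
    exact absurd h2 (not_le.2 (Nat.pow_lt_pow_right hp.out.one_lt (by omega)))
  have hyp : y ^ p = 1 := by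
    rw [hydef, ← pow_mul, ← pow_succ, Nat.sub_add_cancel hn0, ← hx, pow_orderOf_eq_one]
  obtain ⟨Q, ⟨hQQ₀, hxQ, hQy⟩, hmin'⟩ := (Set.toFinite {Q : Subgroup G | Q ≤ Q₀ ∧
      x ∈ Subgroup.normalizer (Q : Set G) ∧ ¬ Q ≤ Subgroup.centralizer ({y} : Set G)}).exists_minimal
    ⟨Q₀, le_rfl, hxQ₀, hQy₀⟩
  have hQ : IsPGroup q Q := hQ₀.to_le hQQ₀
  have hmin : ∀ D : Subgroup G, D < Q → x ∈ Subgroup.normalizer (D : Set G) →
      D ≤ Subgroup.centralizer ({y} : Set G) := fun D hD hDx => by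
    by_contra hDy
    exact hD.not_ge (hmin' (y := D) ⟨hD.le.trans hQQ₀, hDx, hDy⟩ hD.le)
  haveI := Fact.mk hq
  have hyQ : y ∈ Subgroup.normalizer (Q : Set G) := Subgroup.pow_mem _ hxQ _
  have hxy : Commute x y := Commute.self_pow x _
  -- commutators with `y` generate `Q`
  set Q₁ := Subgroup.closure ((fun a => y * a * y⁻¹ * a⁻¹) '' (Q : Set G)) with hQ₁
  have hpQ : ¬ p ∣ Nat.card Q := by
    obtain ⟨i, hi⟩ := IsPGroup.iff_card.1 hQ
    rw [hi]
    exact fun hd => hqp ((Nat.prime_dvd_prime_iff_eq hp.out hq).1 (hp.out.dvd_of_dvd_pow hd)).symm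
  have hfix : ∀ a ∈ Q, Commute y (y * a * y⁻¹ * a⁻¹) → Commute y a := by
    intro a ha hc
    set c := y * a * y⁻¹ * a⁻¹ with hcdef
    have hi : ∀ i : ℕ, y ^ i * a * (y ^ i)⁻¹ = c ^ i * a := by
      intro i
      induction i with
      | zero => simp
      | succ i IH =>
        calc y ^ (i + 1) * a * (y ^ (i + 1))⁻¹ = y * (y ^ i * a * (y ^ i)⁻¹) * y⁻¹ := by rw [pow_succ']; group
          _ = y * (c ^ i * a) * y⁻¹ := by rw [IH]
          _ = c ^ i * (y * a * y⁻¹) := by rw [← mul_assoc, (hc.pow_right i).eq]; group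
          _ = c ^ i * (c * a) := by rw [hcdef]; group
          _ = c ^ (i + 1) * a := by rw [← mul_assoc, ← pow_succ]
    have h1 := hi p
    rw [hyp, one_mul, inv_one, mul_one] at h1
    have h2 : c ^ p = 1 := mul_eq_right.1 h1.symm
    have hcQ : c ∈ Q := Q.mul_mem ((Subgroup.mem_normalizer_iff.1 hyQ a).1 ha) (Q.inv_mem ha)
    have h3 : c = 1 := orderOf_eq_one_iff.1 (Nat.eq_one_of_dvd_coprimes
      ((hp.out.coprime_iff_not_dvd).2 hpQ) (orderOf_dvd_of_pow_eq_one h2) (Subgroup.orderOf_dvd_natCard Q hcQ))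
    rw [hcdef, mul_inv_eq_one, mul_inv_eq_iff_eq_mul] at h3
    exact h3
  have hQ₁Q : Q₁ = Q := by
    have hle : Q₁ ≤ Q := by
      rw [hQ₁, Subgroup.closure_le]
      rintro _ ⟨a, ha, rfl⟩
      exact Q.mul_mem ((Subgroup.mem_normalizer_iff.1 hyQ a).1 ha) (Q.inv_mem ha)
    by_contra hne
    have hx1 : x ∈ Subgroup.normalizer (Q₁ : Set G) := by
      refine Subgroup.mem_normalizer_fintype fun z hz => ?_
      suffices h1 : Q₁ ≤ Q₁.comap (MulAut.conj x).toMonoidHom from h1 hz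
      conv_lhs => rw [hQ₁]
      rw [Subgroup.closure_le]
      rintro _ ⟨a, ha, rfl⟩
      refine Subgroup.subset_closure ⟨x * a * x⁻¹, (Subgroup.mem_normalizer_iff.1 hxQ a).1 ha, ?_⟩
      show y * (x * a * x⁻¹) * y⁻¹ * (x * a * x⁻¹)⁻¹ = x * (y * a * y⁻¹ * a⁻¹) * x⁻¹
      have e1 : y * x = x * y := hxy.eq.symm
      have e2 : x⁻¹ * y⁻¹ = y⁻¹ * x⁻¹ := by rw [← mul_inv_rev, ← mul_inv_rev, e1]
      calc y * (x * a * x⁻¹) * y⁻¹ * (x * a * x⁻¹)⁻¹ = (y * x) * a * (x⁻¹ * y⁻¹) * x * a⁻¹ * x⁻¹ := by group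
        _ = (x * y) * a * (y⁻¹ * x⁻¹) * x * a⁻¹ * x⁻¹ := by rw [e1, e2]
        _ = _ := by group
    refine hQy fun a ha => Subgroup.mem_centralizer_singleton_iff.2 (hfix a ha ?_).symm.eq
    exact (Subgroup.mem_centralizer_singleton_iff.1
      (hmin Q₁ (lt_of_le_of_ne hle hne) hx1 (Subgroup.subset_closure ⟨a, ha, rfl⟩))).symm
  -- the fixed points of `y` are central
  set D := Q ⊓ Subgroup.centralizer ({y} : Set G)
  have hder : ∀ a ∈ Q, ∀ b ∈ Q, a * b * a⁻¹ * b⁻¹ ∈ D := by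
    haveI := hQ.isNilpotent
    haveI : Nontrivial Q := Q.nontrivial_iff_ne_bot.2 fun h0 => hQy (h0 ▸ bot_le)
    set Q' := (commutator Q).map Q.subtype
    have hlt : Q' < Q := by
      refine lt_of_le_of_ne (Subgroup.map_subtype_le _) fun h1 => ?_
      have h2 : commutator Q = ⊤ := Subgroup.map_injective Q.subtype_injective
        (h1.trans ((MonoidHom.range_eq_map Q.subtype).symm.trans Q.range_subtype).symm)
      exact (Group.IsSolvable.commutator_lt_top_of_nontrivial Q).ne h2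
    have hxQ' : x ∈ Subgroup.normalizer (Q' : Set G) := by
      refine Subgroup.mem_normalizer_fintype ?_
      rintro _ ⟨z, hz, rfl⟩
      refine ⟨⟨x * z * x⁻¹, (Subgroup.mem_normalizer_iff.1 hxQ z).1 z.2⟩, ?_, rfl⟩
      let ψ : Q →* Q := ((MulAut.conj x).toMonoidHom.comp Q.subtype).codRestrict Q
        fun a => (Subgroup.mem_normalizer_iff.1 hxQ a).1 a.2
      have hψ : (commutator Q).map ψ ≤ commutator Q := by
        rw [commutator_def, Subgroup.map_commutator]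
        exact Subgroup.commutator_mono le_top le_top
      exact hψ ⟨z, hz, rfl⟩
    intro a ha b hb
    refine ⟨Q.mul_mem (Q.mul_mem (Q.mul_mem ha hb) (Q.inv_mem ha)) (Q.inv_mem hb), hmin Q' hlt hxQ' ?_⟩
    exact ⟨_, Subgroup.commutator_mem_commutator (Subgroup.mem_top (⟨a, ha⟩ : Q)) (Subgroup.mem_top (⟨b, hb⟩ : Q)), rfl⟩
  have hDc : ∀ d ∈ D, ∀ a ∈ Q, Commute d a := by
    intro d hd a ha
    have hyd : y * d = d * y := (Subgroup.mem_centralizer_singleton_iff.1 hd.2).symm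
    have hle : Q₁ ≤ Subgroup.centralizer ({d} : Set G) := by
      rw [hQ₁, Subgroup.closure_le]
      rintro _ ⟨b, hb, rfl⟩
      refine Subgroup.mem_centralizer_singleton_iff.2 ?_
      have hd' : b⁻¹ * d * b ∈ D := by
        have h1 := D.mul_mem (hder b⁻¹ (Q.inv_mem hb) d hd.1) hd
        simpa using h1
      have hyd' := (Subgroup.mem_centralizer_singleton_iff.1 hd'.2)
      calc y * b * y⁻¹ * b⁻¹ * d = y * b * y⁻¹ * (b⁻¹ * d * b) * b⁻¹ := by group
        _ = y * b * y⁻¹ * ((b⁻¹ * d * b * y) * y⁻¹) * b⁻¹ := by group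
        _ = y * b * y⁻¹ * ((y * (b⁻¹ * d * b)) * y⁻¹) * b⁻¹ := by rw [hyd']
        _ = (y * d) * b * y⁻¹ * b⁻¹ := by group
        _ = d * (y * b * y⁻¹ * b⁻¹) := by rw [hyd]; group
    rw [hQ₁Q] at hle
    exact (Subgroup.mem_centralizer_singleton_iff.1 (hle ha)).symm
  -- a simple submodule on which `Q` acts nontrivially
  have hQk : (Nat.card Q : k) ≠ 0 := fun h0 => hpQ ((CharP.cast_eq_zero_iff k p _).1 h0)
  obtain ⟨U, hU, hUnt⟩ : ∃ U, SimpleSub ρ Q U ∧ ¬ ∀ a ∈ Q, ∀ u ∈ U, ρ a u = u := by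
    haveI := Fintype.ofFinite Q
    set X := Submodule.span k (Set.range fun z : Q × V => ρ (z.1 : G) z.2 - z.2)
    have hX : Inv ρ Q X := by
      intro a ha v hv
      induction hv using Submodule.span_induction with
      | mem v hv =>
        obtain ⟨⟨b, w⟩, rfl⟩ := hv
        have e : ρ a (ρ (b : G) w - w) = (ρ (a * b) w - w) - (ρ a w - w) := by
          rw [map_sub, map_mul]; simp
        rw [e]
        exact X.sub_mem (Submodule.subset_span ⟨(⟨a * b, Q.mul_mem ha b.2⟩, w), rfl⟩)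
          (Submodule.subset_span ⟨(⟨a, ha⟩, w), rfl⟩)
      | zero => simp
      | add u w _ _ hu hw => rw [map_add]; exact add_mem hu hw
      | smul c u _ hu => rw [map_smul]; exact Submodule.smul_mem _ c hu
    have hX0 : X ≠ ⊥ := fun h0 => hQy fun a ha => by
      have h1 : ρ a = 1 := LinearMap.ext fun v => sub_eq_zero.1 ((Submodule.eq_bot_iff X).1 h0 _
        (Submodule.subset_span ⟨(⟨a, ha⟩, v), rfl⟩))
      rw [show a = 1 from hρ (h1.trans (map_one ρ).symm)]
      exact Subgroup.one_mem _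
    obtain ⟨U, hU, hUX⟩ := exists_simple_le hX hX0
    refine ⟨U, hU, fun hall => hU.2.1 ((Submodule.eq_bot_iff U).2 fun u hu => ?_)⟩
    let P : V →ₗ[k] V := ∑ a : Q, ρ (a : G)
    have hP : X ≤ LinearMap.ker P := by
      rw [Submodule.span_le]
      rintro _ ⟨⟨b, w⟩, rfl⟩
      simp only [SetLike.mem_coe, LinearMap.mem_ker, map_sub, sub_eq_zero, P, LinearMap.sum_apply]
      exact Fintype.sum_equiv (Equiv.mulRight b) _ _ fun a => by simp
    have h1 : P u = (Nat.card Q : k) • u := by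
      simp only [P, LinearMap.sum_apply, Nat.card_eq_fintype_card]
      rw [Finset.sum_congr rfl (fun (a : Q) _ => hall (a : G) a.2 u hu), Finset.sum_const, Finset.card_univ,
        Nat.cast_smul_eq_nsmul]
    rw [LinearMap.mem_ker.1 (hP (hUX hu))] at h1
    exact (smul_eq_zero.1 h1.symm).resolve_left hQk
  -- the first power of `x` fixing the class of `U`
  have hN : ∀ i : ℕ, x ^ i ∈ Subgroup.normalizer (Q : Set G) := fun i => pow_mem hxQ i
  have hid : ∀ W : Submodule k V, W.map (ρ 1) = W := fun W => by rw [map_one, Module.End.one_eq_id, Submodule.map_id]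
  have hex : ∃ i, 0 < i ∧ Iso ρ Q U (U.map (ρ (x ^ i))) :=
    ⟨p ^ n, pow_pos hp.out.pos n, by rw [← hx, pow_orderOf_eq_one, hid]; exact iso_refl Q U⟩
  obtain ⟨m, ⟨hm0, hmiso⟩, hmmin⟩ : ∃ m, (0 < m ∧ Iso ρ Q U (U.map (ρ (x ^ m)))) ∧
      ∀ i < m, ¬ (0 < i ∧ Iso ρ Q U (U.map (ρ (x ^ i)))) :=
    ⟨Nat.find hex, Nat.find_spec hex, fun i hi => Nat.find_min hex hi⟩
  have hmdvd : m ∣ p ^ n := by
    have hmul : ∀ i, Iso ρ Q U (U.map (ρ (x ^ (m * i)))) := by
      intro i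
      induction i with
      | zero => rw [mul_zero, pow_zero, hid]; exact iso_refl Q U
      | succ i IH =>
        have h1 := iso_map hU.1 IH (hN m)
        rw [map_rho_mul, ← pow_add, show m + m * i = m * (i + 1) by ring] at h1
        exact iso_trans hmiso h1
    have h1 := iso_map hU.1 (hmul (p ^ n / m)) (hN (p ^ n % m))
    rw [map_rho_mul, ← pow_add, Nat.mod_add_div, ← hx, pow_orderOf_eq_one, hid, hx] at h1
    have h2 := iso_symm (simple_map hU (hN _)).1 h1
    by_contra hnd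
    exact hmmin _ (Nat.mod_lt _ hm0) ⟨Nat.pos_of_ne_zero fun h0 => hnd (Nat.dvd_of_mod_eq_zero h0), h2⟩
  obtain ⟨j, hjn, rfl⟩ := (Nat.dvd_prime_pow hp.out).1 hmdvd
  set g := x ^ p ^ j with hgdef
  obtain ⟨U₀, hU₀, -, hUU₀, hU₀g⟩ := exists_invariant hU (hN (p ^ j)) hmiso (X := ⊤) le_top le_top
  have hnon : ∀ i : Fin (p ^ j), 0 < (i : ℕ) → ¬ Iso ρ Q U₀ (U₀.map (ρ (x ^ (i : ℕ)))) := fun i hi h1 =>
    hmmin i i.2 ⟨hi, iso_trans hUU₀ (iso_trans h1
      (iso_symm (simple_map hU (hN _)).1 (iso_map hU.1 hUU₀ (hN _))))⟩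
  -- powers of `x - 1` of small exponent do not vanish
  have hbound : ∀ s : ℕ, 0 < s → (∃ v ∈ U₀, ((ρ g - 1) ^ (s - 1)) v ≠ 0) → p ^ j * s ≤ R := by
    rintro s hs0 ⟨v, hv, hv0⟩
    by_contra hlt
    have hzero : (ρ x - 1) ^ (p ^ j - 1 + p ^ j * (s - 1)) = 0 := by
      refine pow_eq_zero_of_le ?_ hR
      have h1 : p ^ j * s = p ^ j * (s - 1) + p ^ j := by
        rw [← Nat.mul_succ]
        congr 1
        omega
      have := pow_pos hp.out.pos j
      omega
    have hg1 : ρ g - 1 = (ρ x - 1) ^ p ^ j := by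
      rw [sub_pow_char_pow_of_commute _ _ (Commute.one_right _), one_pow, hgdef, map_pow]
    set w := ((ρ g - 1) ^ (s - 1)) v
    have hwU : ∀ i : ℕ, ((ρ g - 1) ^ i) v ∈ U₀ := by
      intro i
      induction i with
      | zero => simpa using hv
      | succ i IH =>
        rw [pow_succ', Module.End.mul_apply, LinearMap.sub_apply, Module.End.one_apply]
        exact U₀.sub_mem (hU₀g ▸ ⟨_, IH, rfl⟩) IH
    have hsum : ∑ i : Fin (p ^ j), ρ (x ^ (i : ℕ)) w = 0 := by
      rw [pow_add, pow_mul, ← hg1, ← geom_sum_eq_sub_one_pow (k := k) (p := p) (ρ x) j] at hzero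
      have h1 := LinearMap.congr_fun hzero v
      rw [Module.End.mul_apply, LinearMap.zero_apply, LinearMap.sum_apply, ← Fin.sum_univ_eq_sum_range
        (fun i => ((ρ x) ^ i) w)] at h1
      simpa only [map_pow] using h1
    let i₀ : Fin (p ^ j) := ⟨0, pow_pos hp.out.pos j⟩
    set T : Fin (p ^ j) → Submodule k V := fun i => U₀.map (ρ (x ^ (i : ℕ)))
    have hd : U₀ ⊓ (Finset.univ.erase i₀).sup T = ⊥ :=
      inf_sup_eq_bot (fun i => simple_map hU₀ (hN _)) hU₀ _ fun i hi => hnon i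
        (Nat.pos_of_ne_zero fun h0 => (Finset.mem_erase.1 hi).1 (Fin.ext h0))
    refine hv0 ((Submodule.eq_bot_iff _).1 hd w ⟨hwU _, ?_⟩)
    rw [← Finset.add_sum_erase _ _ (Finset.mem_univ i₀), pow_zero, map_one, Module.End.one_apply] at hsum
    rw [eq_neg_of_add_eq_zero_left hsum]
    exact Submodule.neg_mem _ (Submodule.sum_mem _ fun i hi => Finset.le_sup (f := T) hi ⟨w, hwU _, rfl⟩)
  rcases hjn.eq_or_lt with rfl | hjlt
  · left
    have h1 := hbound 1 one_pos (by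
      obtain ⟨v, hv, hv0⟩ := (Submodule.ne_bot_iff U₀).1 hU₀.2.1
      exact ⟨v, hv, by simpa using hv0⟩)
    simpa using h1
  -- restriction to `U₀`
  haveI : Nontrivial U₀ := Submodule.nontrivial_iff_ne_bot.2 hU₀.2.1
  haveI : CharP (Module.End k U₀) p := charP_of_injective_algebraMap (algebraMap k (Module.End k U₀)).injective p
  set S := stab ρ U₀
  have hQS : Q ≤ S := fun a ha => Submodule.eq_of_le_of_finrank_le
    (by rintro _ ⟨v, hv, rfl⟩; exact hU₀.1 a ha v hv) (finrank_map_rho a U₀).ge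
  have hgS : g ∈ S := hU₀g
  set n' := n - j with hn'
  have hn'0 : 0 < n' := by omega
  have hordg : orderOf g = p ^ n' := by
    rw [hgdef, orderOf_pow' x (pow_pos hp.out.pos j).ne', hx,
      Nat.gcd_eq_right (pow_dvd_pow p hjlt.le), Nat.pow_div hjlt.le hp.out.pos]
  have hyg : y = g ^ p ^ (n' - 1) := by
    rw [hgdef, ← pow_mul, ← pow_add, hydef, show j + (n' - 1) = n - 1 by omega]
  have hyS : y ∈ S := hyg ▸ S.pow_mem hgS _
  set θ : S →* (Module.End k U₀)ˣ := (restr ρ U₀).toHomUnits with hθ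
  have hθv : ∀ (a : S) (v : U₀), (((θ a : (Module.End k U₀)ˣ) : Module.End k U₀) v : V) = ρ (a : G) v :=
    fun a v => rfl
  set Qb := (Q.subgroupOf S).map θ
  have hnontriv : ∀ (hall : ∀ a : S, (a : G) ∈ Q → θ a = 1), False := by
    intro hall
    obtain ⟨f, hf, hfi, hfr⟩ := hUU₀
    refine hUnt fun a ha u hu => ?_
    have h1 := hf a ha ⟨u, hu⟩ ⟨ρ a u, hU.1 a ha u hu⟩ rfl
    have h2 : ρ a (f ⟨u, hu⟩) = f ⟨u, hu⟩ := by
      have h3 := hθv ⟨a, hQS ha⟩ ⟨f ⟨u, hu⟩, hfr ▸ LinearMap.mem_range_self f _⟩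
      rw [hall ⟨a, hQS ha⟩ ha, Units.val_one, Module.End.one_apply] at h3
      exact h3.symm
    rw [h2] at h1
    exact congrArg (fun z : U => (z : V)) (hfi h1)
  have hgen : (∀ a : S, (a : G) ∈ Q → Commute (θ ⟨y, hyS⟩) (θ a)) → False := by
    intro hall
    refine hnontriv fun a ha => ?_
    have hle : Q₁ ≤ θ.ker.map S.subtype := by
      rw [hQ₁, Subgroup.closure_le]
      rintro _ ⟨b, hb, rfl⟩
      refine ⟨⟨y, hyS⟩ * ⟨b, hQS hb⟩ * ⟨y, hyS⟩⁻¹ * ⟨b, hQS hb⟩⁻¹, ?_, rfl⟩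
      rw [SetLike.mem_coe, MonoidHom.mem_ker, map_mul, map_mul, map_mul, map_inv, map_inv,
        (hall ⟨b, hQS hb⟩ hb).eq]
      group
    obtain ⟨a', ha', e⟩ := hle (hQ₁Q.symm ▸ ha)
    rw [← Subtype.ext e]
    exact ha'
  have hcard : (Nat.card Qb : k) ≠ 0 := fun h0 => hpQ (((CharP.cast_eq_zero_iff k p _).1 h0).trans
    ((Subgroup.card_map_dvd _ θ).trans (dvd_of_eq (Nat.card_congr (Subgroup.subgroupOfEquivOfLe hQS).toEquiv))))
  have hirr : ∀ W : Submodule k U₀, (∀ a ∈ Qb, ∀ w ∈ W, (a : Module.End k U₀) w ∈ W) → W = ⊥ ∨ W = ⊤ := by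
    intro W hW
    have hinv : Inv ρ Q (W.map U₀.subtype) := by
      rintro a ha _ ⟨w, hw, rfl⟩
      exact ⟨_, hW _ ⟨⟨a, hQS ha⟩, ha, rfl⟩ w hw, rfl⟩
    rcases hU₀.2.2 _ hinv (Submodule.map_subtype_le _ _) with h1 | h1
    · exact Or.inl (Submodule.map_injective_of_injective U₀.subtype_injective (h1.trans (Submodule.map_bot _).symm))
    · exact Or.inr (Submodule.map_injective_of_injective U₀.subtype_injective
        (h1.trans (Submodule.map_subtype_top U₀).symm))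
  have hscal : ∀ a : S, (a : G) ∈ Q → Commute (θ ⟨y, hyS⟩) (θ a) →
      ∃ c : k, ((θ a : (Module.End k U₀)ˣ) : Module.End k U₀) = c • (1 : Module.End k U₀) := by
    intro a ha hca
    set F := {b : S // (b : G) ∈ Q ∧ θ b = θ a}
    let ys : S := ⟨y, hyS⟩
    let σ₀ : F → F := fun b => ⟨ys * b.1 * ys⁻¹, (Subgroup.mem_normalizer_iff.1 hyQ _).1 b.2.1, by
      rw [map_mul, map_mul, map_inv, b.2.2, hca.eq, mul_inv_cancel_right]⟩
    have hσi : Function.Injective σ₀ := fun b b' e => Subtype.ext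
      (mul_left_cancel (mul_right_cancel (congrArg Subtype.val e)))
    let σ : Equiv.Perm F := Equiv.ofBijective σ₀ ⟨hσi, Finite.surjective_of_injective hσi⟩
    have hσ : ∀ (i : ℕ) (b : F), (((σ ^ i) b : F) : S) = ys ^ i * b.1 * (ys ^ i)⁻¹ := by
      intro i
      induction i with
      | zero => simp
      | succ i IH =>
        intro b
        rw [pow_succ', Equiv.Perm.mul_apply]
        show ys * (((σ ^ i) b : F) : S) * ys⁻¹ = _
        rw [IH, pow_succ']; group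
    haveI := Fintype.ofFinite F
    have hF : ¬ p ∣ Fintype.card F := by
      rw [← Nat.card_eq_fintype_card]
      intro hd
      let e : F ≃ {b : S // (b : G) ∈ Q ∧ θ b = 1} :=
        { toFun := fun b => ⟨b.1 * a⁻¹, Q.mul_mem b.2.1 (Q.inv_mem ha), by rw [map_mul, map_inv, b.2.2, mul_inv_cancel]⟩
          invFun := fun b => ⟨b.1 * a, Q.mul_mem b.2.1 ha, by rw [map_mul, b.2.2, one_mul]⟩
          left_inv := fun b => Subtype.ext (by simp)
          right_inv := fun b => Subtype.ext (by simp) }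
      rw [Nat.card_congr e] at hd
      have h1 : {b : S // (b : G) ∈ Q ∧ θ b = 1} ≃ (Q.subgroupOf S ⊓ θ.ker : Subgroup S) :=
        Equiv.subtypeEquivRight fun b => Iff.rfl
      rw [Nat.card_congr h1] at hd
      exact hpQ (hd.trans ((Subgroup.card_dvd_of_le inf_le_left).trans
        (dvd_of_eq (Nat.card_congr (Subgroup.subgroupOfEquivOfLe hQS).toEquiv))))
    obtain ⟨b, hb⟩ := Equiv.Perm.exists_fixed_point_of_prime (p := p) (n := 1) hF (σ := σ)
      (Equiv.ext fun b => Subtype.ext (by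
        rw [pow_one, hσ, show ys ^ p = 1 from Subtype.ext hyp, one_mul, inv_one, mul_one]; rfl))
    have hbD : ((b.1 : S) : G) ∈ D := ⟨b.2.1, Subgroup.mem_centralizer_singleton_iff.2 (by
      have h2 := congrArg (fun z : F => ((z : S) : G)) hb
      change y * ((b.1 : S) : G) * y⁻¹ = _ at h2
      exact (mul_inv_eq_iff_eq_mul.1 h2).symm)⟩
    refine scalar_of_commute ((fun z : (Module.End k U₀)ˣ => (z : Module.End k U₀)) '' (Qb : Set _))
      (fun W hW => hirr W fun z hz => hW _ ⟨z, hz, rfl⟩) ?_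
    rintro _ ⟨_, ⟨c, hc, rfl⟩, rfl⟩
    have h3 : Commute c b.1 := Subtype.ext (hDc _ hbD (c : G) hc).symm.eq
    rw [← b.2.2]
    exact congrArg Units.val (h3.map θ).eq
  have hnc : ¬ ∀ a b : S, (a : G) ∈ Q → (b : G) ∈ Q → Commute (θ a) (θ b) := by
    intro hall
    refine hgen fun a ha => ?_
    obtain ⟨c, hc⟩ := scalar_of_commute ((fun z : (Module.End k U₀)ˣ => (z : Module.End k U₀)) '' (Qb : Set _))
      (fun W hW => hirr W fun z hz => hW _ ⟨z, hz, rfl⟩) (f := ((θ a : (Module.End k U₀)ˣ) : Module.End k U₀))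
      (by rintro _ ⟨_, ⟨b, hb, rfl⟩, rfl⟩; exact congrArg Units.val (hall b a hb ha).eq)
    exact Units.ext (by rw [Units.val_mul, Units.val_mul, hc, mul_smul_comm, smul_mul_assoc, one_mul, mul_one])
  let gs : S := ⟨g, hgS⟩
  have hTg : ∀ i : ℕ, θ gs ^ i = θ (gs ^ i) := fun i => (map_pow θ gs i).symm
  have hTn : θ gs ^ p ^ n' = 1 := by
    rw [hTg, show gs ^ p ^ n' = 1 from Subtype.ext (show g ^ p ^ n' = 1 by rw [← hordg, pow_orderOf_eq_one]), map_one]
  have hys : (⟨y, hyS⟩ : S) = gs ^ p ^ (n' - 1) := Subtype.ext hyg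
  have hT1 : θ gs ≠ 1 := fun h1 => hgen fun a _ => by
    rw [hys, map_pow, h1, one_pow]
    exact Commute.one_left _
  set N := (θ gs : Module.End k U₀) - 1 with hN'
  have hNh : N ^ p ^ n' = 0 := by
    rw [hN', sub_pow_char_pow_of_commute _ _ (Commute.one_right _), one_pow, ← Units.val_pow_eq_pow_val, hTn,
      Units.val_one, sub_self]
  have hex' : ∃ s, N ^ s = 0 := ⟨_, hNh⟩
  obtain ⟨s, hs0, hsmin⟩ : ∃ s, N ^ s = 0 ∧ ∀ i < s, N ^ i ≠ 0 :=
    ⟨Nat.find hex', Nat.find_spec hex', fun i hi => Nat.find_min hex' hi⟩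
  have hspos : 0 < s := Nat.pos_of_ne_zero fun h0 => by rw [h0, pow_zero] at hs0; exact one_ne_zero hs0
  haveI : Finite Qb := Finite.of_surjective
    (fun a : Q.subgroupOf S => (⟨θ a, a, a.2, rfl⟩ : Qb)) fun ⟨_, a, ha, e⟩ => ⟨⟨a, ha⟩, Subtype.ext e⟩
  obtain ⟨hlow, heq⟩ := critical Qb hcard hirr (θ gs) (by
      rintro _ ⟨a, ha, rfl⟩
      refine ⟨gs * a * gs⁻¹, (Subgroup.mem_normalizer_iff.1 (hN (p ^ j)) _).1 ha, ?_⟩
      rw [map_mul, map_mul, map_inv]) n' hTn hT1 (by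
      rintro _ ⟨a, ha, rfl⟩ i hi hih hcomm
      refine hscal a ha ?_
      obtain ⟨e, u, hu, rfl⟩ : ∃ e u, ¬ p ∣ u ∧ i = p ^ e * u :=
        ⟨_, _, Nat.not_dvd_ordCompl hp.out hi.ne', (Nat.ordProj_mul_ordCompl_eq_self i p).symm⟩
      have he : e < n' := (Nat.pow_lt_pow_iff_right hp.out.one_lt).1
        (lt_of_le_of_lt (Nat.le_mul_of_pos_right _ (Nat.pos_of_ne_zero (by rintro rfl; exact hu (dvd_zero p)))) hih)
      obtain ⟨u', hu'⟩ := exists_pow_eq_self_of_coprime (x := θ gs) (n := u)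
        (Nat.Coprime.coprime_dvd_right (orderOf_dvd_of_pow_eq_one hTn)
          ((hp.out.coprime_iff_not_dvd.2 hu).symm.pow_right n'))
      have h1 : Commute (θ gs ^ p ^ e) (θ a) := by
        have h2 : Commute (θ gs ^ (p ^ e * u)) (θ a) := hcomm
        have h3 := h2.pow_left u'
        rwa [← pow_mul, show p ^ e * u * u' = u * u' * p ^ e by ring, pow_mul, pow_mul, hu'] at h3
      have h4 := h1.pow_left (p ^ (n' - 1 - e))
      rwa [← pow_mul, ← pow_add, Nat.add_sub_cancel' (by omega : e ≤ n' - 1), hTg, ← hys] at h4) s hs0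
    (hsmin _ (by omega))
  obtain ⟨v, hv⟩ : ∃ v, (N ^ (s - 1)) v ≠ 0 := by
    by_contra hall
    push Not at hall
    exact hsmin _ (by omega) (LinearMap.ext hall)
  have hvV : ∀ i : ℕ, ((N ^ i) v : V) = ((ρ g - 1) ^ i) (v : V) := by
    intro i
    induction i with
    | zero => simp
    | succ i IH =>
      rw [pow_succ', Module.End.mul_apply, pow_succ', Module.End.mul_apply, ← IH]
      rfl
  have hb := hbound s hspos ⟨v, v.2, fun h0 => hv (Subtype.ext ((hvV _).trans h0))⟩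
  rcases le_or_gt (p ^ n') s with hle | hlt
  · left
    calc p ^ n = p ^ j * p ^ n' := by rw [← pow_add]; congr 1; omega
      _ ≤ p ^ j * s := Nat.mul_le_mul le_rfl hle
      _ ≤ R := hb
  right
  have hs1 : s + 1 = p ^ n' := by omega
  have hdim := heq hs1
  obtain ⟨b, hb'⟩ := exists_pow_finrank (ρ := ρ) Q hQ U₀ hU₀
  refine ⟨n', b, hn'0, by omega, Nat.pos_of_ne_zero fun h0 => ?_, ?_, fun hab => ?_, ?_⟩
  · rw [h0, pow_zero] at hb'
    obtain ⟨v₀, -, hv₀⟩ := finrank_eq_one_iff'.1 hb'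
    refine hnc fun a c _ _ => Units.ext (LinearMap.ext fun w => ?_)
    obtain ⟨r, rfl⟩ := hv₀ w
    obtain ⟨ra, hra⟩ := hv₀ ((θ a : Module.End k U₀) v₀)
    obtain ⟨rc, hrc⟩ := hv₀ ((θ c : Module.End k U₀) v₀)
    simp only [Units.val_mul, Module.End.mul_apply, map_smul, ← hra, ← hrc, smul_smul]
    ring_nf
  · rw [← hb', hdim]; omega
  · exact hnc fun a c ha hc =>
      (show Commute a c from Subtype.ext (hab _ (hQQ₀ ha) _ (hQQ₀ hc))).map θ
  · rw [show n - n' = j by omega, show p ^ n' - 1 = s by omega]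
    exact hb

/-- Theorem B over an algebraically closed field. -/
theorem theorem_B [Nontrivial V] (hρ : Function.Injective ρ) (hs : Cfsg.IsPSolvable p G) (hOp : Cfsg.pCore p G = ⊥)
    (x : G) (n : ℕ) (hx : orderOf x = p ^ n) (R : ℕ) (hR : (ρ x - 1) ^ R = 0) :
    p ^ n ≤ R ∨ ∃ n₀ q m : ℕ, 1 ≤ n₀ ∧ n₀ ≤ n ∧ q.Prime ∧ 1 ≤ m ∧ p ^ n₀ - 1 = q ^ m ∧
      (∀ Q : Sylow q G, ¬ IsMulCommutative Q) ∧ p ^ (n - n₀) * (p ^ n₀ - 1) ≤ R := by
  rcases Nat.eq_zero_or_pos n with rfl | hn0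
  · left
    rw [pow_zero]
    by_contra hR0
    rw [show R = 0 by omega, pow_zero] at hR
    exact one_ne_zero hR
  have hy1 : x ^ p ^ (n - 1) ≠ 1 := fun h1 => by
    have h2 := Nat.le_of_dvd (pow_pos hp.out.pos _) (hx ▸ orderOf_dvd_of_pow_eq_one h1)
    exact absurd h2 (not_le.2 (Nat.pow_lt_pow_right hp.out.one_lt (by omega)))
  obtain ⟨q, Q, hq, hqp, hQ, hxQ, hQy, -⟩ :=
    exists_minimal_qSubgroup hs hOp hx (Subgroup.pow_mem _ (Subgroup.mem_zpowers x) _) hy1
  haveI := Fact.mk hq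
  rcases theorem_B_sub ρ hρ x n hx hn0 hq hqp Q hQ hxQ hQy R hR with h | ⟨n₀, m, h1, h2, h3, h4, h5, h6⟩
  · exact Or.inl h
  refine Or.inr ⟨n₀, q, m, h1, h2, hq, h3, h4, fun P hP => h5 fun a ha c hc => ?_, h6⟩
  obtain ⟨P', hP'⟩ := hQ.exists_le_sylow
  obtain ⟨z, hz⟩ := MulAction.exists_smul_eq G P P'
  have ha' := hP' ha
  have hc' := hP' hc
  rw [← hz, Sylow.coe_subgroup_smul, Subgroup.mem_pointwise_smul_iff_inv_smul_mem] at ha' hc'
  have h7 := congrArg Subtype.val (hP.is_comm.comm ⟨_, ha'⟩ ⟨_, hc'⟩)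
  simp only [Subgroup.coe_mul, ← smul_mul'] at h7
  exact MulAction.injective _ h7

end CfsgLib.HallHigmanB
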