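import Mathlib

/-!
Simple submodules of a subgroup inside a representation of a group, their translates, and the
dimension of an irreducible representation of a `q`-group.
-/

set_option autoImplicit false
set_option linter.style.haveILetI false
set_option linter.unusedSectionVars false

namespace CfsgLib.HallHigmanB

variable {k : Type*} [Field k] {G : Type*} [Group G] {V : Type*} [AddCommGroup V] [Module k V]
  (ρ : G →* Module.End k V)

/-- `W` is invariant under the elements of `M`. -/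
def Inv (M : Subgroup G) (W : Submodule k V) : Prop := ∀ g ∈ M, ∀ v ∈ W, ρ g v ∈ W

/-- `W` is a simple `M`-submodule. -/
def SimpleSub (M : Subgroup G) (W : Submodule k V) : Prop :=
  Inv ρ M W ∧ W ≠ ⊥ ∧ ∀ W' : Submodule k V, Inv ρ M W' → W' ≤ W → W' = ⊥ ∨ W' = W

/-- The `M`-equivariant maps from `W` to the whole space. -/
def homSub (M : Subgroup G) (W : Submodule k V) : Submodule k (W →ₗ[k] V) where
  carrier := {f | ∀ g ∈ M, ∀ w w' : W, (w' : V) = ρ g w → f w' = ρ g (f w)}
  add_mem' := by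
    intro f f' hf hf' g hg w w' h
    simp [hf g hg w w' h, hf' g hg w w' h]
  zero_mem' := by
    intro g _ w w' _
    simp
  smul_mem' := by
    intro c f hf g hg w w' h
    simp [hf g hg w w' h]

/-- The maps from `W` with values in `X`. -/
def intoSub (W X : Submodule k V) : Submodule k (W →ₗ[k] V) where
  carrier := {f | ∀ w, f w ∈ X}
  add_mem' := fun hf hf' w => X.add_mem (hf w) (hf' w)
  zero_mem' := fun _ => X.zero_mem
  smul_mem' := fun c _ hf w => X.smul_mem c (hf w)

/-- `W'` is the image of `W` under an injective `M`-map. -/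
def Iso (M : Subgroup G) (W W' : Submodule k V) : Prop :=
  ∃ f ∈ homSub ρ M W, Function.Injective f ∧ LinearMap.range f = W'

variable {ρ} {M : Subgroup G} {W W' W'' : Submodule k V}

theorem mem_homSub {f : W →ₗ[k] V} :
    f ∈ homSub ρ M W ↔ ∀ g ∈ M, ∀ w w' : W, (w' : V) = ρ g w → f w' = ρ g (f w) := Iff.rfl

theorem apply_inv_apply (g : G) (v : V) : ρ g (ρ g⁻¹ v) = v := by
  rw [← Module.End.mul_apply, ← map_mul, mul_inv_cancel, map_one, Module.End.one_apply]

theorem inv_apply_apply (g : G) (v : V) : ρ g⁻¹ (ρ g v) = v := by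
  rw [← Module.End.mul_apply, ← map_mul, inv_mul_cancel, map_one, Module.End.one_apply]

theorem rho_injective (g : G) : Function.Injective (ρ g) := fun a b h => by
  rw [← inv_apply_apply (ρ := ρ) g a, h, inv_apply_apply]

theorem exists_simple_le [FiniteDimensional k V] (hW : Inv ρ M W) (h0 : W ≠ ⊥) :
    ∃ U, SimpleSub ρ M U ∧ U ≤ W := by
  induction hn : Module.finrank k W using Nat.strong_induction_on generalizing W with
  | _ n IH =>
  by_cases h : ∀ W' : Submodule k V, Inv ρ M W' → W' ≤ W → W' = ⊥ ∨ W' = W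
  · exact ⟨W, ⟨hW, h0, h⟩, le_rfl⟩
  push Not at h
  obtain ⟨W', hW', hle, h1, h2⟩ := h
  obtain ⟨U, hU, hUW⟩ := IH _ (hn ▸ Submodule.finrank_lt_finrank_of_lt (lt_of_le_of_ne hle h2)) hW' h1 rfl
  exact ⟨U, hU, hUW.trans hle⟩

theorem inv_range (hW : Inv ρ M W) {f : W →ₗ[k] V} (hf : f ∈ homSub ρ M W) : Inv ρ M (LinearMap.range f) := by
  rintro g hg _ ⟨w, rfl⟩
  exact ⟨⟨ρ g w, hW g hg w w.2⟩, hf g hg w _ rfl⟩

theorem SimpleSub.injective_of_ne_zero (hW : SimpleSub ρ M W) {f : W →ₗ[k] V} (hf : f ∈ homSub ρ M W)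
    (h0 : f ≠ 0) : Function.Injective f := by
  rw [← LinearMap.ker_eq_bot]
  have hinv : Inv ρ M ((LinearMap.ker f).map W.subtype) := by
    rintro g hg _ ⟨w, hw, rfl⟩
    refine ⟨⟨ρ g w, hW.1 g hg w w.2⟩, ?_, rfl⟩
    rw [SetLike.mem_coe, LinearMap.mem_ker, hf g hg w _ rfl, LinearMap.mem_ker.1 hw, map_zero]
  rcases hW.2.2 _ hinv (Submodule.map_subtype_le _ _) with h | h
  · exact Submodule.map_injective_of_injective W.subtype_injective (h.trans (Submodule.map_bot _).symm)
  · refine absurd (LinearMap.ext fun w => ?_) h0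
    have hw : (w : V) ∈ (LinearMap.ker f).map W.subtype := by rw [h]; exact w.2
    obtain ⟨w', hw', e⟩ := hw
    rw [← Subtype.ext e]
    exact LinearMap.mem_ker.1 hw'

theorem iso_refl (M : Subgroup G) (W : Submodule k V) : Iso ρ M W W :=
  ⟨W.subtype, fun _ _ _ _ h => h, W.subtype_injective, W.range_subtype⟩

theorem iso_trans (h : Iso ρ M W W') (h' : Iso ρ M W' W'') : Iso ρ M W W'' := by
  obtain ⟨f, hf, hfi, hfr⟩ := h
  obtain ⟨f', hf', hfi', hfr'⟩ := h'
  let e : W →ₗ[k] W' := f.codRestrict W' fun w => hfr ▸ LinearMap.mem_range_self f w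
  refine ⟨f' ∘ₗ e, fun g hg w w' h => hf' g hg _ _ (hf g hg w w' h), hfi'.comp fun a b hab => hfi ?_, ?_⟩
  · exact congrArg (fun x : W' => (x : V)) hab
  · rw [LinearMap.range_comp_of_range_eq_top, hfr']
    rw [LinearMap.range_eq_top]
    intro x
    obtain ⟨w, hw⟩ := (hfr.symm ▸ x.2 : (x : V) ∈ LinearMap.range f)
    exact ⟨w, Subtype.ext hw⟩

theorem iso_symm (hW : Inv ρ M W) (h : Iso ρ M W W') : Iso ρ M W' W := by
  obtain ⟨f, hf, hfi, rfl⟩ := h
  refine ⟨W.subtype ∘ₗ (LinearEquiv.ofInjective f hfi).symm.toLinearMap, fun g hg a b hab => ?_,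
    W.subtype_injective.comp (LinearEquiv.injective _), ?_⟩
  · obtain ⟨u, rfl⟩ := (LinearEquiv.ofInjective f hfi).surjective a
    obtain ⟨u', rfl⟩ := (LinearEquiv.ofInjective f hfi).surjective b
    simp only [LinearMap.comp_apply, LinearEquiv.coe_coe, LinearEquiv.symm_apply_apply, Submodule.subtype_apply]
    simp only [LinearEquiv.ofInjective_apply] at hab
    have h2 := hf g hg u ⟨ρ g u, hW g hg u u.2⟩ rfl
    rw [← h2] at hab
    exact congrArg (fun x : W => (x : V)) (hfi hab)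
  · rw [LinearMap.range_comp_of_range_eq_top _ (LinearEquiv.range _), W.range_subtype]

theorem Iso.simpleSub (hW : SimpleSub ρ M W) (h : Iso ρ M W W') : SimpleSub ρ M W' := by
  obtain ⟨f, hf, hfi, rfl⟩ := h
  refine ⟨inv_range hW.1 hf, fun h0 => hW.2.1 ?_, fun U hU hle => ?_⟩
  · rw [LinearMap.range_eq_bot] at h0
    subst h0
    exact (Submodule.eq_bot_iff W).2 fun x hx => by
      simpa using congrArg Subtype.val (@hfi ⟨x, hx⟩ 0 (by simp))
  · have hinv : Inv ρ M ((U.comap f).map W.subtype) := by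
      rintro g hg _ ⟨w, hw, rfl⟩
      refine ⟨⟨ρ g w, hW.1 g hg w w.2⟩, ?_, rfl⟩
      rw [SetLike.mem_coe, Submodule.mem_comap, hf g hg w _ rfl]
      exact hU g hg _ hw
    have hU' : U = (U.comap f).map f := by rw [Submodule.map_comap_eq, inf_eq_right.2 hle]
    rcases hW.2.2 _ hinv (Submodule.map_subtype_le _ _) with h | h
    · left
      have h' : U.comap f = ⊥ := Submodule.map_injective_of_injective W.subtype_injective (h.trans (Submodule.map_bot _).symm)
      rw [hU', h', Submodule.map_bot]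
    · right
      have : U.comap f = ⊤ := Submodule.map_injective_of_injective W.subtype_injective
        (h.trans (Submodule.map_subtype_top W).symm)
      rw [hU', this, Submodule.map_top]

theorem map_rho_inv (g : G) (W : Submodule k V) : (W.map (ρ g)).map (ρ g⁻¹) = W := by
  ext v
  constructor
  · rintro ⟨_, ⟨w, hw, rfl⟩, rfl⟩
    rwa [inv_apply_apply]
  · exact fun hv => ⟨ρ g v, ⟨v, hv, rfl⟩, inv_apply_apply g v⟩

theorem map_rho_mul (a b : G) (W : Submodule k V) : (W.map (ρ b)).map (ρ a) = W.map (ρ (a * b)) := by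
  ext v
  constructor
  · rintro ⟨_, ⟨w, hw, rfl⟩, rfl⟩
    exact ⟨w, hw, by rw [map_mul]; rfl⟩
  · rintro ⟨w, hw, rfl⟩
    exact ⟨ρ b w, ⟨w, hw, rfl⟩, by rw [map_mul]; rfl⟩

theorem finrank_map_rho (g : G) (W : Submodule k V) : Module.finrank k (W.map (ρ g)) = Module.finrank k W :=
  (Submodule.equivMapOfInjective _ (rho_injective (ρ := ρ) g) W).finrank_eq.symm

theorem simple_map (hW : SimpleSub ρ M W) {g : G} (hg : g ∈ Subgroup.normalizer (M : Set G)) :
    SimpleSub ρ M (W.map (ρ g)) := by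
  have hinv : ∀ (a : G), a ∈ Subgroup.normalizer (M : Set G) → ∀ U, Inv ρ M U → Inv ρ M (U.map (ρ a)) := by
    rintro a ha U hU m hm _ ⟨u, hu, rfl⟩
    refine ⟨ρ (a⁻¹ * m * a) u, hU _ ?_ u hu, ?_⟩
    · have := (Subgroup.mem_normalizer_iff''.1 ha m).1 hm
      exact this
    · rw [← Module.End.mul_apply, ← map_mul, ← Module.End.mul_apply, ← map_mul]
      group
  refine ⟨hinv g hg W hW.1, fun h => hW.2.1 ?_, fun U hU hle => ?_⟩
  · rw [← map_rho_inv (ρ := ρ) g W, h, Submodule.map_bot]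
  · have e : (U.map (ρ g⁻¹)).map (ρ g) = U := by simpa using map_rho_inv (ρ := ρ) g⁻¹ U
    rcases hW.2.2 (U.map (ρ g⁻¹)) (hinv _ (inv_mem hg) U hU)
      (by rw [← map_rho_inv (ρ := ρ) g W]; exact Submodule.map_mono hle) with h | h
    · exact Or.inl (by rw [← e, h, Submodule.map_bot])
    · exact Or.inr (by rw [← e, h])

theorem iso_map (hW : Inv ρ M W) (h : Iso ρ M W W') {g : G} (hg : g ∈ Subgroup.normalizer (M : Set G)) :
    Iso ρ M (W.map (ρ g)) (W'.map (ρ g)) := by
  obtain ⟨f, hf, hfi, rfl⟩ := h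
  let e : W ≃ₗ[k] W.map (ρ g) := Submodule.equivMapOfInjective _ (rho_injective (ρ := ρ) g) W
  refine ⟨(ρ g) ∘ₗ f ∘ₗ e.symm.toLinearMap, fun m hm a b hab => ?_,
    (rho_injective (ρ := ρ) g).comp (hfi.comp e.symm.injective), ?_⟩
  · obtain ⟨u, rfl⟩ := e.surjective a
    obtain ⟨u', rfl⟩ := e.surjective b
    simp only [LinearMap.comp_apply, LinearEquiv.coe_coe, LinearEquiv.symm_apply_apply]
    have hm' : g⁻¹ * m * g ∈ M := (Subgroup.mem_normalizer_iff''.1 hg m).1 hm
    have hu' : (u' : V) = ρ (g⁻¹ * m * g) u := by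
      refine rho_injective (ρ := ρ) g ?_
      have : ρ g (u' : V) = ρ m (ρ g (u : V)) := hab
      rw [this, ← Module.End.mul_apply, ← map_mul, ← Module.End.mul_apply, ← map_mul]
      group
    rw [hf _ hm' u u' hu', ← Module.End.mul_apply, ← map_mul, ← Module.End.mul_apply, ← map_mul]
    group
  · rw [LinearMap.range_comp, LinearMap.range_comp_of_range_eq_top _ (LinearEquiv.range _)]

/-- A simple submodule isomorphic to its translate is isomorphic to an invariant one. -/
theorem exists_invariant [FiniteDimensional k V] [IsAlgClosed k] (hW : SimpleSub ρ M W) {g : G}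
    (hg : g ∈ Subgroup.normalizer (M : Set G)) (h : Iso ρ M W (W.map (ρ g))) {X : Submodule k V} (hWX : W ≤ X)
    (hX : X.map (ρ g) ≤ X) :
    ∃ W₀, SimpleSub ρ M W₀ ∧ W₀ ≤ X ∧ Iso ρ M W W₀ ∧ W₀.map (ρ g) = W₀ := by
  obtain ⟨f, hf, hfi, hfr⟩ := h
  let t₀ : W →ₗ[k] W := (LinearEquiv.ofInjective f hfi).symm.toLinearMap ∘ₗ
    ((ρ g ∘ₗ W.subtype).codRestrict (LinearMap.range f) fun w => hfr.symm ▸ ⟨w, w.2, rfl⟩)
  have ht : ∀ w : W, f (t₀ w) = ρ g w := fun w => by
    show f ((LinearEquiv.ofInjective f hfi).symm _) = _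
    rw [← LinearEquiv.ofInjective_apply f (h := hfi), LinearEquiv.apply_symm_apply]
    rfl
  have htb : Function.Bijective t₀ := by
    have hi : Function.Injective t₀ := fun a b hab => Subtype.ext (rho_injective (ρ := ρ) g (by rw [← ht, hab, ht]))
    exact ⟨hi, LinearMap.surjective_of_injective hi⟩
  let t := LinearEquiv.ofBijective t₀ htb
  have hnorm : ∀ m ∈ M, g⁻¹ * m * g ∈ M := fun m hm => (Subgroup.mem_normalizer_iff''.1 hg m).1 hm
  have hts : ∀ m ∈ M, ∀ w w' : W, (w' : V) = ρ m w → (t.symm w' : V) = ρ (g⁻¹ * m * g) (t.symm w) := by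
    intro m hm w w' hww
    have h1 : t ⟨ρ (g⁻¹ * m * g) (t.symm w), hW.1 _ (hnorm m hm) _ (t.symm w).2⟩ = w' := by
      refine hfi ?_
      rw [show t _ = t₀ _ from rfl, ht, hf m hm w w' hww]
      have h2 : f w = ρ g (t.symm w : V) := by
        rw [← ht, show t₀ (t.symm w) = t (t.symm w) from rfl, LinearEquiv.apply_symm_apply]
      rw [h2]
      show ρ g (ρ (g⁻¹ * m * g) _) = _
      rw [← Module.End.mul_apply, ← map_mul, ← Module.End.mul_apply, ← map_mul]
      group
    rw [← h1, LinearEquiv.symm_apply_apply]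
  let Φ : Module.End k (homSub ρ M W ⊓ intoSub W X : Submodule k (W →ₗ[k] V)) :=
    { toFun := fun a => ⟨ρ g ∘ₗ (a : W →ₗ[k] V) ∘ₗ t.symm.toLinearMap, fun m hm w w' hww => by
          simp only [LinearMap.comp_apply, LinearEquiv.coe_coe]
          rw [a.2.1 _ (hnorm m hm) _ _ (hts m hm w w' hww), ← Module.End.mul_apply, ← map_mul,
            ← Module.End.mul_apply, ← map_mul]
          group,
          fun w => hX ⟨_, a.2.2 (t.symm w), rfl⟩⟩
      map_add' := fun a b => by ext w; simp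
      map_smul' := fun c a => by ext w; simp }
  have hfX : ∀ w, f w ∈ X := fun w => hX (Submodule.map_mono hWX (hfr ▸ LinearMap.mem_range_self f w))
  haveI : Nontrivial (homSub ρ M W ⊓ intoSub W X : Submodule k (W →ₗ[k] V)) := by
    refine ⟨⟨⟨f, hf, hfX⟩, 0, fun h0 => hW.2.1 ((Submodule.eq_bot_iff W).2 fun x hx => ?_)⟩⟩
    have hf0 : f = 0 := congrArg Subtype.val h0
    simpa using congrArg Subtype.val (@hfi ⟨x, hx⟩ 0 (by rw [hf0]; simp))
  obtain ⟨μ, hμ⟩ := Module.End.exists_eigenvalue Φ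
  obtain ⟨⟨a, ha, haX⟩, hev, ha0⟩ := hμ.exists_hasEigenvector
  have hai : Function.Injective a := hW.injective_of_ne_zero ha fun e => ha0 (Subtype.ext e)
  refine ⟨LinearMap.range a, Iso.simpleSub hW ⟨a, ha, hai, rfl⟩, ?_, ⟨a, ha, hai, rfl⟩, ?_⟩
  · rintro _ ⟨w, rfl⟩
    exact haX w
  refine Submodule.eq_of_le_of_finrank_le ?_ (finrank_map_rho g _).ge
  rintro _ ⟨_, ⟨w, rfl⟩, rfl⟩
  refine ⟨μ • t w, ?_⟩
  have h1 : (Φ ⟨a, ha, haX⟩ : W →ₗ[k] V) (t w) = μ • a (t w) :=
    congrArg (fun z : (homSub ρ M W ⊓ intoSub W X : Submodule k (W →ₗ[k] V)) => (z : W →ₗ[k] V) (t w))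
      (Module.End.mem_eigenspace_iff.1 hev)
  change ρ g (a (t.symm (t w))) = μ • a (t w) at h1
  rw [LinearEquiv.symm_apply_apply] at h1
  rw [map_smul, h1]

theorem inf_sup_eq_bot {ι : Type*} [FiniteDimensional k V] {U : ι → Submodule k V} (hU : ∀ i, SimpleSub ρ M (U i))
    (hW : SimpleSub ρ M W) (s : Finset ι) (h : ∀ i ∈ s, ¬ Iso ρ M W (U i)) : W ⊓ s.sup U = ⊥ := by
  classical
  have hRinv : ∀ s : Finset ι, Inv ρ M (s.sup U) := by
    intro s
    induction s using Finset.induction_on with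
    | empty => intro g _ v hv; simp only [Finset.sup_empty, Submodule.mem_bot] at hv ⊢; rw [hv, map_zero]
    | insert i s _ IH =>
      intro g hg v hv
      rw [Finset.sup_insert, Submodule.mem_sup] at hv ⊢
      obtain ⟨a, ha, b, hb, rfl⟩ := hv
      exact ⟨_, (hU i).1 g hg a ha, _, IH g hg b hb, (map_add _ _ _).symm⟩
  have hinf : ∀ A B : Submodule k V, Inv ρ M A → Inv ρ M B → Inv ρ M (A ⊓ B) := fun A B hA hB g hg v hv =>
    ⟨hA g hg v hv.1, hB g hg v hv.2⟩
  induction s using Finset.induction_on with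
  | empty => simp
  | insert i s his IH =>
    rw [Finset.sup_insert]
    set R := s.sup U
    have hWR : W ⊓ R = ⊥ := IH fun j hj => h j (Finset.mem_insert_of_mem hj)
    rcases (hU i).2.2 _ (hinf _ _ (hU i).1 (hRinv s)) inf_le_left with hi | hi
    swap
    · rwa [sup_eq_right.2 (inf_eq_left.1 hi)]
    rcases hW.2.2 _ (hinf W (U i ⊔ R) hW.1 (by simpa [Finset.sup_insert] using hRinv (insert i s))) inf_le_left
      with hx | hx
    · exact hx
    exfalso
    have hle : W ≤ U i ⊔ R := inf_eq_left.1 hx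
    obtain ⟨C, hC⟩ := Submodule.exists_isCompl (U i ⊔ R)
    have hQ : IsCompl (U i) (R ⊔ C) := by
      refine ⟨disjoint_iff.2 ((Submodule.eq_bot_iff _).2 fun v hv => ?_), codisjoint_iff.2 (by
        rw [← sup_assoc, hC.sup_eq_top])⟩
      obtain ⟨r, hr, c, hc, e⟩ := Submodule.mem_sup.1 hv.2
      have hcm : c ∈ U i ⊔ R := by
        have hv' : v - r ∈ U i ⊔ R :=
          Submodule.sub_mem _ (Submodule.mem_sup_left hv.1) (Submodule.mem_sup_right hr)
        rwa [show v - r = c by rw [← e]; abel] at hv'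
      have hc0 : c = 0 := Submodule.disjoint_def.1 hC.disjoint c hcm hc
      rw [hc0, add_zero] at e
      exact (Submodule.eq_bot_iff _).1 hi v ⟨hv.1, e ▸ hr⟩
    let P : V →ₗ[k] V := (U i).subtype ∘ₗ Submodule.projectionOnto (U i) (R ⊔ C) hQ
    have hP : ∀ a ∈ U i, ∀ b ∈ R, P (a + b) = a := fun a ha b hb => by
      have h1 := Submodule.projectionOnto_apply_left hQ ⟨a, ha⟩
      have h2 := Submodule.projectionOnto_apply_of_mem_right hQ (Submodule.mem_sup_left hb : b ∈ R ⊔ C)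
      show ((Submodule.projectionOnto (U i) (R ⊔ C) hQ (a + b) : U i) : V) = a
      rw [map_add, h2, add_zero]
      exact congrArg Subtype.val h1
    let f : W →ₗ[k] V := P ∘ₗ W.subtype
    have hf : f ∈ homSub ρ M W := by
      intro g hg w w' hww
      obtain ⟨a, ha, b, hb, e⟩ := Submodule.mem_sup.1 (hle w.2)
      show P (w' : V) = ρ g (P (w : V))
      rw [hww, ← e, map_add, hP _ ((hU i).1 g hg a ha) _ (hRinv s g hg b hb), hP a ha b hb]
    have hfi : Function.Injective f := by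
      rw [← LinearMap.ker_eq_bot, LinearMap.ker_eq_bot']
      intro w hw
      obtain ⟨a, ha, b, hb, e⟩ := Submodule.mem_sup.1 (hle w.2)
      have hw' : P (w : V) = 0 := hw
      rw [← e, hP a ha b hb] at hw'
      refine Subtype.ext ((Submodule.eq_bot_iff _).1 hWR (w : V) ⟨w.2, ?_⟩)
      rw [← e, hw', zero_add]
      exact hb
    refine h i (Finset.mem_insert_self i s) ⟨f, hf, hfi, ?_⟩
    have hrle : LinearMap.range f ≤ U i := by
      rintro _ ⟨w, rfl⟩
      exact (Submodule.projectionOnto (U i) (R ⊔ C) hQ (w : V)).2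
    refine ((hU i).2.2 _ (inv_range hW.1 hf) hrle).resolve_left fun h0 => hW.2.1 ?_
    rw [LinearMap.range_eq_bot] at h0
    exact (Submodule.eq_bot_iff W).2 fun x hx => by
      simpa using congrArg Subtype.val (@hfi ⟨x, hx⟩ 0 (by rw [h0]; simp))

theorem finrank_sup [FiniteDimensional k V] {ι : Type*} {U : ι → Submodule k V} (hU : ∀ i, SimpleSub ρ M (U i))
    (hne : ∀ i j, i ≠ j → ¬ Iso ρ M (U i) (U j)) (s : Finset ι) :
    Module.finrank k (s.sup U : Submodule k V) = s.sum fun i => Module.finrank k (U i) := by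
  classical
  induction s using Finset.induction_on with
  | empty => simp
  | insert i s his IH =>
    rw [Finset.sup_insert, Finset.sum_insert his, ← IH]
    have hd := inf_sup_eq_bot hU (hU i) s fun j hj => hne i j fun e => his (e ▸ hj)
    have := Submodule.finrank_sup_add_finrank_inf_eq (U i) (s.sup U)
    rw [hd, finrank_bot, add_zero] at this
    exact this

/-- Translates under powers are pairwise non-isomorphic below the first period. -/
theorem translates_not_iso (hW : SimpleSub ρ M W) {g : G} (hg : g ∈ Subgroup.normalizer (M : Set G)) {m : ℕ}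
    (hmin : ∀ i, 0 < i → i < m → ¬ Iso ρ M W (W.map (ρ (g ^ i)))) {i j : ℕ} (hi : i < m) (hj : j < m)
    (hij : i ≠ j) : ¬ Iso ρ M (W.map (ρ (g ^ i))) (W.map (ρ (g ^ j))) := by
  intro h
  wlog hlt : i < j generalizing i j with H
  · exact H hj hi hij.symm (iso_symm (simple_map hW (Subgroup.pow_mem _ hg i)).1 h) (by omega)
  have h2 := iso_map (simple_map hW (Subgroup.pow_mem _ hg i)).1 h (inv_mem (Subgroup.pow_mem _ hg i))
  rw [map_rho_inv, map_rho_mul] at h2
  refine hmin (j - i) (by omega) (by omega) ?_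
  rwa [show (g ^ i)⁻¹ * g ^ j = g ^ (j - i) by
    rw [inv_mul_eq_iff_eq_mul, ← pow_add, Nat.add_sub_cancel' hlt.le]] at h2

/-- A simple submodule of a `q`-group has dimension a power of `q`. -/
theorem exists_pow_finrank [Finite G] [FiniteDimensional k V] [IsAlgClosed k] {q : ℕ} [hq : Fact q.Prime] :
    ∀ (P : Subgroup G), IsPGroup q P → ∀ U : Submodule k V, SimpleSub ρ P U → ∃ b, Module.finrank k U = q ^ b := by
  intro P
  induction hn : Nat.card P using Nat.strong_induction_on generalizing P with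
  | _ n IH =>
  intro hP U hU
  rcases eq_or_ne P ⊥ with rfl | hP0
  · refine ⟨0, ?_⟩
    obtain ⟨v, hv, hv0⟩ := (Submodule.ne_bot_iff U).1 hU.2.1
    have hinv : Inv ρ (⊥ : Subgroup G) (Submodule.span k {v}) := fun g hg w hw => by
      rw [Subgroup.mem_bot.1 hg, map_one]; exact hw
    have hs : Submodule.span k {v} ≠ ⊥ := by simpa using hv0
    rw [← (hU.2.2 _ hinv ((Submodule.span_singleton_le_iff_mem v U).2 hv)).resolve_left hs, pow_zero,
      finrank_span_singleton hv0]
  haveI : Nontrivial P := P.nontrivial_iff_ne_bot.2 hP0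
  obtain ⟨M₀, hM₀, -⟩ := (eq_top_or_exists_le_coatom (⊥ : Subgroup P)).resolve_left bot_ne_top
  haveI := hP.isNilpotent
  have hMn : M₀.Normal := Subgroup.NormalizerCondition.normal_of_coatom M₀ Group.normalizerCondition_of_isNilpotent hM₀
  set M := M₀.map P.subtype with hM
  have hMP : M ≤ P := Subgroup.map_subtype_le M₀
  have hcard : Nat.card M < Nat.card P := by
    rw [hM, Subgroup.card_map_of_injective P.subtype_injective]
    exact lt_of_le_of_ne (Subgroup.card_le_card_group M₀) fun h => hM₀.1 (Subgroup.eq_top_of_card_eq _ h)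
  have hnorm : P ≤ Subgroup.normalizer (M : Set G) := fun a ha => Subgroup.mem_normalizer_fintype (by
    rintro _ ⟨y, hy, rfl⟩
    exact ⟨⟨a, ha⟩ * y * ⟨a, ha⟩⁻¹, hMn.conj_mem y hy _, rfl⟩)
  have hUM : Inv ρ M U := fun g hg => hU.1 g (hMP hg)
  obtain ⟨W, hW, hWU⟩ := exists_simple_le hUM hU.2.1
  obtain ⟨g₀, hg₀⟩ : ∃ g₀ : P, g₀ ∉ M₀ := by
    by_contra h
    push Not at h
    exact hM₀.1 (eq_top_iff.2 fun x _ => h x)
  -- generated by `M` and one further element
  have hgen : ∀ a : P, a ∉ M₀ → ∀ X : Submodule k V, Inv ρ M X → X.map (ρ (a : G)) ≤ X → Inv ρ P X := by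
    intro a ha X hX hXa
    let S : Submonoid G :=
      { carrier := {g | ∀ v ∈ X, ρ g v ∈ X}
        one_mem' := fun v hv => by simpa using hv
        mul_mem' := fun {a b} ha hb v hv => by rw [map_mul]; exact ha _ (hb v hv) }
    have htop : M₀ ⊔ Subgroup.zpowers a = ⊤ := hM₀.2 _ (lt_of_le_of_ne le_sup_left fun e =>
      ha (e ▸ Subgroup.mem_sup_right (Subgroup.mem_zpowers a)))
    intro g hg
    have : (⟨g, hg⟩ : P) ∈ Subgroup.closure ((M₀ : Set P) ∪ {a}) := by
      rw [Subgroup.closure_union, Subgroup.closure_eq, ← Subgroup.zpowers_eq_closure, htop]; trivial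
    rw [← Subgroup.mem_toSubmonoid, Subgroup.closure_toSubmonoid_of_finite] at this
    have hle : Submonoid.closure ((M₀ : Set P) ∪ {a}) ≤ S.comap P.subtype := by
      rw [Submonoid.closure_le]
      rintro x (hx | rfl)
      · exact hX x ⟨x, hx, rfl⟩
      · exact fun v hv => hXa ⟨v, hv, rfl⟩
    exact hle this
  set g : G := (g₀ : G)
  have he : ∃ e, 0 < e ∧ g ^ e ∈ M := ⟨orderOf g, orderOf_pos g, by rw [pow_orderOf_eq_one]; exact one_mem _⟩
  classical
  obtain ⟨e, ⟨he0, heM⟩, hemin⟩ : ∃ e, (0 < e ∧ g ^ e ∈ M) ∧ ∀ i < e, ¬ (0 < i ∧ g ^ i ∈ M) :=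
    ⟨Nat.find he, Nat.find_spec he, fun i hi => Nat.find_min he hi⟩
  obtain ⟨b, hb⟩ := IH _ (hn ▸ hcard) M rfl (hP.to_le hMP) W hW
  by_cases hiso : ∃ i, 0 < i ∧ i < e ∧ Iso ρ M W (W.map (ρ (g ^ i)))
  · obtain ⟨i, hi0, hie, hiso⟩ := hiso
    obtain ⟨f, hf, hfi, hfr⟩ := hiso
    -- work inside `U`
    obtain ⟨W₀, hW₀, hW₀U, hWW₀, hW₀g⟩ := exists_invariant hW (hnorm (P.pow_mem g₀.2 i)) ⟨f, hf, hfi, hfr⟩ hWU
      (by rintro _ ⟨v, hv, rfl⟩; exact hU.1 _ (P.pow_mem g₀.2 i) v hv)
    refine ⟨b, ?_⟩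
    have hW₀inv : Inv ρ P W₀ := hgen (g₀ ^ i) (fun hc => hemin i hie ⟨hi0, ⟨g₀ ^ i, hc, by simp [g]⟩⟩) W₀ hW₀.1
      (by rw [Subgroup.coe_pow]; exact hW₀g.le)
    obtain ⟨f', hf', hfi', hfr'⟩ := hWW₀
    rw [← (hU.2.2 W₀ hW₀inv hW₀U).resolve_left hW₀.2.1, ← hfr', LinearMap.finrank_range_of_inj hfi', hb]
  · push Not at hiso
    have hdvd : e ∣ orderOf g := by
      rw [← Nat.div_add_mod (orderOf g) e]
      have hr : orderOf g % e = 0 := by
        by_contra hr0
        refine hemin _ (Nat.mod_lt _ he0) ⟨Nat.pos_of_ne_zero hr0, ?_⟩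
        have h1 : g ^ (orderOf g % e) = ((g ^ e) ^ (orderOf g / e))⁻¹ := by
          refine eq_inv_of_mul_eq_one_right ?_
          rw [← pow_mul, ← pow_add, Nat.div_add_mod, pow_orderOf_eq_one]
        rw [h1]
        exact inv_mem (pow_mem heM _)
      rw [hr, add_zero]
      exact dvd_mul_right e _
    obtain ⟨c, hc⟩ := hP g₀
    have hce : e ∣ q ^ c := hdvd.trans (orderOf_dvd_of_pow_eq_one (congrArg Subtype.val hc :))
    obtain ⟨d, -, rfl⟩ := (Nat.dvd_prime_pow hq.out).1 hce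
    refine ⟨d + b, ?_⟩
    set T : Fin (q ^ d) → Submodule k V := fun i => W.map (ρ (g ^ (i : ℕ)))
    have hT : ∀ i, SimpleSub ρ M (T i) := fun i => simple_map hW (hnorm (P.pow_mem g₀.2 i))
    have hne : ∀ i j, i ≠ j → ¬ Iso ρ M (T i) (T j) := fun i j hij => translates_not_iso hW (hnorm g₀.2)
      (fun l hl hle => hiso l hl hle) i.2 j.2 (fun h => hij (Fin.ext h))
    have hfin := finrank_sup hT hne Finset.univ
    simp only [T, finrank_map_rho, Finset.sum_const, Finset.card_univ, Fintype.card_fin, smul_eq_mul, hb] at hfin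
    rw [pow_add, ← hfin]
    have hle : Finset.univ.sup T ≤ U := Finset.sup_le fun i _ => by
      rintro _ ⟨w, hw, rfl⟩
      exact hU.1 _ (P.pow_mem g₀.2 _) w (hWU hw)
    have hsinv : Inv ρ M (Finset.univ.sup T) := by
      intro m hm v hv
      rw [Finset.sup_univ_eq_iSup] at hv ⊢
      refine Submodule.iSup_induction T (motive := fun v => ρ m v ∈ iSup T) hv
        (fun i x hx => Submodule.mem_iSup_of_mem i ((hT i).1 m hm x hx)) (by simp)
        fun x y hx hy => by rw [map_add]; exact add_mem hx hy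
    have hsg : (Finset.univ.sup T).map (ρ g) ≤ Finset.univ.sup T := by
      rw [Finset.sup_univ_eq_iSup, Submodule.map_iSup, iSup_le_iff]
      intro i
      simp only [T, map_rho_mul, ← pow_succ']
      rcases Nat.lt_or_eq_of_le (Nat.succ_le_of_lt i.2) with h | h
      · exact le_iSup (fun i : Fin (q ^ d) => W.map (ρ (g ^ (i : ℕ)))) ⟨(i : ℕ) + 1, h⟩
      · refine le_trans ?_ (le_iSup (fun i : Fin (q ^ d) => W.map (ρ (g ^ (i : ℕ)))) ⟨0, he0⟩)
        simp only [pow_zero, map_one]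
        rw [show (i : ℕ) + 1 = q ^ d from h]
        rintro _ ⟨w, hw, rfl⟩
        exact ⟨ρ (g ^ q ^ d) w, hW.1 _ heM w hw, rfl⟩
    rcases hU.2.2 _ (hgen g₀ hg₀ _ hsinv hsg) hle with h | h
    · exfalso
      refine hW.2.1 (eq_bot_iff.2 (le_trans ?_ h.le))
      refine le_trans ?_ (Finset.le_sup (f := T) (Finset.mem_univ (⟨0, he0⟩ : Fin (q ^ d))))
      intro w hw
      exact ⟨w, hw, by simp⟩
    · rw [h]

end CfsgLib.HallHigmanB
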