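import Cfsg.Agent.HallHigmanB.Field
import Cfsg.Agent.ExtraFpf.ConjRep
import Cfsg.Agent.CoprimeAction.Frattini
import Cfsg.Agent.CoprimeAction.Basic
import Cfsg.Agent.PCore.Descent

/-!
Theorem B applied to the action on `O_p(G)` modulo its Frattini subgroup.
-/

set_option autoImplicit false
set_option linter.style.haveILetI false

namespace CfsgLib.HallHigmanB

open CfsgLib.PCore
open scoped IsMulCommutative

variable {G : Type*} [Group G] {p : ℕ} [hp : Fact p.Prime]

/-- The Frattini subgroup of `O_p(G)`. -/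
def coreFrattini (p : ℕ) (G : Type*) [Group G] : Subgroup G :=
  (frattini (Cfsg.pCore p G)).map (Cfsg.pCore p G).subtype

instance coreFrattini_normal : (coreFrattini p G).Normal := by
  haveI : (Cfsg.pCore p G).Normal := Cfsg.pCore_normal p G
  exact ConjAct.normal_of_characteristic_of_normal

theorem coreFrattini_le : coreFrattini p G ≤ Cfsg.pCore p G := Subgroup.map_subtype_le _

/-- `(v x)^i = v (x v x⁻¹) ⋯ x^i`. -/
theorem mul_pow_eq (v x : G) (i : ℕ) :
    (v * x) ^ i = ((List.range i).map fun j => x ^ j * v * (x ^ j)⁻¹).prod * x ^ i := by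
  induction i with
  | zero => simp
  | succ i IH =>
    rw [pow_succ, IH, List.range_succ, List.map_append, List.prod_append, List.map_singleton, List.prod_singleton,
      pow_succ]
    group

variable [Finite G]

theorem centralizer_topLayer (hs : Cfsg.IsPSolvable p G) (h0 : Cfsg.pPrimeCore p G = ⊥) :
    (Subgroup.centralizer ((Cfsg.pCore p G).map (QuotientGroup.mk' (coreFrattini p G)) :
      Set (G ⧸ coreFrattini p G))).comap (QuotientGroup.mk' (coreFrattini p G)) ≤ Cfsg.pCore p G := by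
  set P := Cfsg.pCore p G
  set π := QuotientGroup.mk' (coreFrattini p G)
  haveI hPn : P.Normal := Cfsg.pCore_normal p G
  haveI : (P.map π).Normal := hPn.map π (QuotientGroup.mk'_surjective _)
  set C := (Subgroup.centralizer ((P.map π : Subgroup _) : Set (G ⧸ coreFrattini p G))).comap π
  haveI hCn : C.Normal := (Subgroup.normal_centralizer).comap π
  refine le_pCore hCn (isPGroup_of_forall_coprime C fun a ha hap => ?_)
  have h1 : Subgroup.zpowers a ≤ Subgroup.centralizer (P : Set G) := by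
    refine CfsgLib.CoprimeAction.le_centralizer_of_frattini ?_ fun b hb k hk => ?_
    · obtain ⟨i, hi⟩ := IsPGroup.iff_card.1 ((isPGroup_pCore p G).to_subgroup (frattini P))
      rw [hi, Nat.card_zpowers]
      exact hap.pow_right i
    · have hbC : b ∈ C := Subgroup.zpowers_le.2 ha hb
      refine (QuotientGroup.eq_one_iff _).1 ?_
      show π (b * k * b⁻¹ * k⁻¹) = 1
      rw [map_mul, map_mul, map_mul, map_inv, map_inv, mul_inv_eq_one, mul_inv_eq_iff_eq_mul]
      exact (Subgroup.mem_centralizer_iff.1 hbC _ ⟨k, hk, rfl⟩).symm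
  have h2 : a ∈ P := hall_higman hs h0 (h1 (Subgroup.mem_zpowers a))
  obtain ⟨i, hi⟩ := IsPGroup.iff_card.1 (isPGroup_pCore p G)
  exact orderOf_eq_one_iff.1 (Nat.eq_one_of_dvd_coprimes (hap.pow_right i) dvd_rfl
    (hi ▸ Subgroup.orderOf_dvd_natCard P h2))

/-- The consequences of Theorem B for an element whose degree on the top layer is not full. -/
theorem deficient (hs : Cfsg.IsPSolvable p G) (h0 : Cfsg.pPrimeCore p G = ⊥) (x : G) (n : ℕ)
    (hn : orderOf (QuotientGroup.mk' (Cfsg.pCore p G) x) = p ^ n) (hn0 : 0 < n)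
    (hdef : ∀ v ∈ Cfsg.pCore p G, (v * x) ^ p ^ n * (x ^ p ^ n)⁻¹ ∈ coreFrattini p G) :
    (∃ n₀ q m : ℕ, 1 ≤ n₀ ∧ n₀ ≤ n ∧ q.Prime ∧ 1 ≤ m ∧ p ^ n₀ - 1 = q ^ m ∧
      (∀ Q : Sylow q (G ⧸ Cfsg.pCore p G), ¬ IsMulCommutative Q)) ∧
    (∀ q : ℕ, q.Prime → q ≠ p → ∀ Q : Subgroup (G ⧸ Cfsg.pCore p G), IsPGroup q Q →
      QuotientGroup.mk' (Cfsg.pCore p G) x ∈ Subgroup.normalizer (Q : Set (G ⧸ Cfsg.pCore p G)) →
      ¬ Q ≤ Subgroup.centralizer ({(QuotientGroup.mk' (Cfsg.pCore p G) x) ^ p ^ (n - 1)} : Set _) →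
      ∃ n₀ m : ℕ, 1 ≤ n₀ ∧ n₀ ≤ n ∧ 1 ≤ m ∧ p ^ n₀ - 1 = q ^ m ∧ ¬ ∀ a ∈ Q, ∀ b ∈ Q, a * b = b * a) ∧
    (2 * p ^ (n - 1) ≤ p ^ n - p ^ (n - 1) → ∃ w ∈ Cfsg.pCore p G,
      x ^ p ^ (n - 1) * ((w * x) ^ p ^ (n - 1) * (x ^ p ^ (n - 1))⁻¹) * (x ^ p ^ (n - 1))⁻¹ *
        ((w * x) ^ p ^ (n - 1) * (x ^ p ^ (n - 1))⁻¹)⁻¹ ∉ coreFrattini p G) := by
  classical
  set P := Cfsg.pCore p G
  haveI hPn : P.Normal := Cfsg.pCore_normal p G
  set π := QuotientGroup.mk' (coreFrattini p G) with hπ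
  set Vb := P.map π with hVb
  haveI hVn : Vb.Normal := hPn.map π (QuotientGroup.mk'_surjective _)
  have hPp := isPGroup_pCore p G
  have hfr : ∀ z : P, z ∈ frattini P → π (z : G) = 1 := fun z hz =>
    (QuotientGroup.eq_one_iff _).2 ⟨z, hz, rfl⟩
  haveI : IsMulCommutative Vb := ⟨⟨fun a b => by
    obtain ⟨_, a, ha, rfl⟩ := a
    obtain ⟨_, b, hb, rfl⟩ := b
    refine Subtype.ext ?_
    show π a * π b = π b * π a
    have h1 := hfr ((⟨a, ha⟩ : P) * ⟨b, hb⟩ * ⟨a, ha⟩⁻¹ * ⟨b, hb⟩⁻¹)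
      (CfsgLib.CoprimeAction.commutator_le_frattini' hPp
        (Subgroup.commutator_mem_commutator (Subgroup.mem_top _) (Subgroup.mem_top _)))
    rw [← mul_inv_eq_one, ← h1]
    simp [map_mul, map_inv, mul_assoc]⟩⟩
  have hexp : ∀ a : Vb, a ^ p = 1 := by
    rintro ⟨_, a, ha, rfl⟩
    refine Subtype.ext ?_
    show π a ^ p = 1
    rw [← map_pow]
    exact hfr ((⟨a, ha⟩ : P) ^ p) (CfsgLib.CoprimeAction.pow_mem_frattini hPp _)
  haveI : Module (ZMod p) (Additive Vb) := AddCommGroup.zmodModule (n := p) (G := Additive Vb) fun a => by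
    rw [← ofMul_toMul a, ← ofMul_pow, hexp]
    rfl
  let ρ₀ : G →* Module.End (ZMod p) (Additive Vb) := (CfsgLib.ExtraFpf.conjRep Vb p).comp
    (π.codRestrict (Subgroup.normalizer (Vb : Set (G ⧸ coreFrattini p G))) fun g => by
      rw [Subgroup.normalizer_eq_top_iff.2 hVn]; exact Subgroup.mem_top _)
  have hρ₀ : ∀ g : G, ∀ a : Additive Vb, ((Additive.toMul (ρ₀ g a) : Vb) : G ⧸ coreFrattini p G) =
      π g * ((Additive.toMul a : Vb) : G ⧸ coreFrattini p G) * (π g)⁻¹ := fun g a => rfl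
  have hker : ∀ g, ρ₀ g = 1 ↔ g ∈ P := fun g => by
    refine (CfsgLib.ExtraFpf.conjRep_eq_one Vb p _).trans ⟨fun h => centralizer_topLayer hs h0 h, fun h => ?_⟩
    refine Subgroup.mem_centralizer_iff.2 fun a ha => ?_
    exact congrArg Subtype.val (IsMulCommutative.is_comm.comm (⟨a, ha⟩ : Vb) ⟨π g, g, h, rfl⟩)
  let ρ : G ⧸ P →* Module.End (ZMod p) (Additive Vb) := QuotientGroup.lift P ρ₀ fun g hg => (hker g).2 hg
  have hρx : ∀ g : G, ρ (QuotientGroup.mk' P g) = ρ₀ g := fun g => rfl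
  have hρ : Function.Injective ρ := by
    rw [← MonoidHom.ker_eq_bot_iff, eq_bot_iff]
    intro a ha
    obtain ⟨g, rfl⟩ := QuotientGroup.mk'_surjective P a
    exact Subgroup.mem_bot.2 ((QuotientGroup.eq_one_iff g).2 ((hker g).1 ha))
  have hx1 : QuotientGroup.mk' P x ≠ 1 := fun h => by
    rw [h, orderOf_one] at hn
    exact absurd hn (Nat.one_lt_pow hn0.ne' hp.out.one_lt).ne
  haveI : Nontrivial (Additive Vb) := by
    by_contra hnt
    rw [not_nontrivial_iff_subsingleton] at hnt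
    exact hx1 (hρ (LinearMap.ext fun a => Subsingleton.elim _ _))
  haveI : CharP (Module.End (ZMod p) (Additive Vb)) p :=
    charP_of_injective_algebraMap (algebraMap (ZMod p) (Module.End (ZMod p) (Additive Vb))).injective p
  -- the sums of powers are products of conjugates
  have hsum : ∀ (i : ℕ) (v : G) (hv : v ∈ P),
      ((Additive.toMul ((∑ j ∈ Finset.range i, ρ₀ x ^ j) (Additive.ofMul (⟨π v, v, hv, rfl⟩ : Vb))) : Vb) :
        G ⧸ coreFrattini p G) = π ((v * x) ^ i * (x ^ i)⁻¹) := by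
    intro i v hv
    induction i with
    | zero => simp
    | succ i IH =>
      rw [Finset.sum_range_succ, LinearMap.add_apply, toMul_add, Subgroup.coe_mul, IH, ← map_pow, hρ₀]
      show π _ * (π (x ^ i) * π v * (π (x ^ i))⁻¹) = _
      rw [← map_inv, ← map_mul, ← map_mul, ← map_mul]
      congr 1
      rw [pow_succ (v * x), pow_succ x]
      group
  have hzero : (ρ (QuotientGroup.mk' P x) - 1) ^ (p ^ n - 1) = 0 := by
    rw [← geom_sum_eq_sub_one_pow (k := ZMod p) (p := p) _ n, hρx]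
    refine LinearMap.ext fun a => ?_
    obtain ⟨⟨_, v, hv, rfl⟩, rfl⟩ := Additive.ofMul.surjective a
    apply Additive.toMul.injective
    refine Subtype.ext ?_
    rw [hsum (p ^ n) v hv]
    exact (QuotientGroup.eq_one_iff _).2 (hdef v hv)
  have hlt : ¬ p ^ n ≤ p ^ n - 1 := by
    have := pow_pos hp.out.pos n
    omega
  have hB := (theorem_B_field ρ hρ (isPSolvable_quotient hs P) pCore_quotient _ n hn (p ^ n - 1) hzero).resolve_left hlt
  refine ⟨?_, fun q hq hqp Q hQ hxQ hQy => ?_, fun hbig => ?_⟩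
  · obtain ⟨n₀, q, m, h1, h2, h3, h4, h5, h6, -⟩ := hB
    exact ⟨n₀, q, m, h1, h2, h3, h4, h5, h6⟩
  · obtain ⟨n₀, m, h1, h2, h3, h4, h5, -⟩ :=
      (theorem_B_sub_field ρ hρ _ n hn hn0 hq hqp Q hQ hxQ hQy (p ^ n - 1) hzero).resolve_left hlt
    exact ⟨n₀, m, h1, h2, h3, h4, h5⟩
  · by_contra hcon
    push Not at hcon
    set M := p ^ (n - 1)
    have hM : 0 < M := pow_pos hp.out.pos _
    have hz2 : (ρ (QuotientGroup.mk' P x) - 1) ^ (M + (M - 1)) = 0 := by
      rw [pow_add, sub_pow_char_pow_of_commute _ _ (Commute.one_right _), one_pow,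
        ← geom_sum_eq_sub_one_pow (k := ZMod p) (p := p) _ (n - 1), hρx, ← map_pow]
      refine LinearMap.ext fun a => ?_
      obtain ⟨⟨_, v, hv, rfl⟩, rfl⟩ := Additive.ofMul.surjective a
      rw [Module.End.mul_apply, LinearMap.sub_apply, Module.End.one_apply, LinearMap.zero_apply]
      refine sub_eq_zero.2 (Additive.toMul.injective (Subtype.ext ?_))
      rw [hρ₀, hsum M v hv]
      have h1 : π _ = 1 := (QuotientGroup.eq_one_iff _).2 (hcon v hv)
      rw [map_mul, map_mul, map_mul, map_inv, map_inv, mul_inv_eq_one] at h1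
      exact h1
    rcases theorem_B_field ρ hρ (isPSolvable_quotient hs P) pCore_quotient _ n hn _ hz2 with h |
      ⟨n₀, q, m, h1, h2, -, -, -, -, h6⟩
    · omega
    · have h7 : p ^ n - M ≤ p ^ (n - n₀) * (p ^ n₀ - 1) := by
        rw [Nat.mul_sub, mul_one, ← pow_add, Nat.sub_add_cancel h2]
        exact Nat.sub_le_sub_left (Nat.pow_le_pow_right hp.out.pos (by omega)) _
      omega

end CfsgLib.HallHigmanB
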